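import Cfsg.Agent.UGT.Res.WMany.End
import Cfsg.Agent.S1175

/-!
# The criterion S1175 as `Crit G`
-/

set_option autoImplicit false

namespace Cfsg.Agent.UGT.Res.WMany

theorem crit {G : Type*} [Group G] [Finite G] [IsSimpleGroup G] : Crit G :=
  fun M hM z hz hzM h1 h2 h3 => Cfsg.Agent.S1175.result M hM z hz hzM h1 h2 h3

end Cfsg.Agent.UGT.Res.WMany
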