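import Cfsg.Agent.UGT.Res.WMany.Main
import Cfsg.Agent.UGT.Res.WGlue
import Cfsg.Agent.UGT.Res.WSupB

/-!
# The leaf `W ≠ 1` of R4 from the data `Gd`

`G` simple, `(x, a, L)` a triple, `O(H) = W ≠ 1`, `L W = H`, `t ≠ a` a second involution of `K0 W H ∩ C(x)` commuting
with `a`, all involutions `u` of `K0 W H ∩ C(x)` have `Gd x W H u`, `a` is `f`-fine, and different conjugates of `H`
under `N(W)` commute modulo `W` (STEP 1): a contradiction.
-/

set_option autoImplicit false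
set_option linter.unusedSectionVars false

open Cfsg Subgroup
open Cfsg.Agent.SignalizersComponents Cfsg.Agent.Lib
open Cfsg.Agent.SignalizersComponents.IntrinsicBasic
open Cfsg.Agent.Intrinsic.Basic Cfsg.Agent.Intrinsic.Cen Cfsg.Agent.Intrinsic.Diag
open Cfsg.Agent.McLLyComp.Act
open Cfsg.Agent.UGT.Triple Cfsg.Agent.UGT.PumpGen Cfsg.Agent.UGT.TriBase
open Cfsg.Agent.UGT.Res.Base Cfsg.Agent.UGT.Res.Abel Cfsg.Agent.UGT.Res.CoreFree
open Cfsg.Agent.UGT.Res.WFun Cfsg.Agent.UGT.Res.WPair Cfsg.Agent.UGT.Res.WStar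
open Cfsg.Agent.UGT.Res.WGlue Cfsg.Agent.UGT.Res.KFacts
open scoped commutatorElement

universe u

namespace Cfsg.Agent.UGT.Res.WMany

variable {G : Type u} [Group G] [Finite G] {W H L : Subgroup G} {x a t : G}

/-- a simple group with a 2-component in a centralizer of an involution has no sign -/
theorem no_sign [IsSimpleGroup G] (T : IsTriple x a L) (f : G →* ℤˣ) : f = 1 := by
  have hL : L ≤ f.ker := by
    rw [← T.comp.perfect, commutator_le]
    intro a _ b _
    rw [MonoidHom.mem_ker, map_commutatorElement, commutatorElement_eq_one_iff_mul_comm, mul_comm]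
  rcases (inferInstance : f.ker.Normal).eq_bot_or_eq_top with h | h
  · exfalso
    rw [h, le_bot_iff] at hL
    exact T.comp.ne_bot hL
  · exact MonoidHom.ker_eq_top_iff.mp h

theorem hasFour_pair (haK : a ∈ K0 W H) (htK : t ∈ K0 W H) (oa : orderOf a = 2) (ot : orderOf t = 2)
    (hne : t ≠ a) (hta : t * a = a * t) (hax : a * x = x * a) (htx : t * x = x * t) :
    HasFour (K0 W H ⊓ centralizer ({x} : Set G)) := by
  have haa := sq_of_order oa
  have htt := sq_of_order ot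
  have hc : ∀ v ∈ zpowers a, v * t = t * v := by
    intro v hv
    rcases (mem_zpowers_of_sq haa).mp hv with h1 | h1
    · rw [h1, one_mul, mul_one]
    · rw [h1, hta]
  refine ⟨zpowers a ⊔ zpowers t, ?_, ?_, WGlueA.card_four oa ot hne.symm hta.symm⟩
  · refine sup_le ?_ ?_ <;> rw [zpowers_le]
    · exact ⟨haK, mem_c hax⟩
    · exact ⟨htK, mem_c htx⟩
  · refine sq_sup_zpowers ?_ htt hc
    intro v hv
    rcases (mem_zpowers_of_sq haa).mp hv with h1 | h1
    · rw [h1, one_mul]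
    · rw [h1, haa]

/-- **the leaf `W ≠ 1`** -/
theorem false_of_gd [IsSimpleGroup G] (P : Pgl G) (TB : TwoBal G) (hcrit : Crit G)
    (T : IsTriple x a L) (hc : core H = W) (hL : L ⊔ W = H) (hW : W ≠ ⊥) (hx : x ∈ M0 W H)
    (haK : a ∈ K0 W H) (htK : t ∈ K0 W H) (ot : orderOf t = 2) (hne : t ≠ a) (hta : t * a = a * t)
    (htx : t * x = x * t) (ff : FF W H a)
    (gd : ∀ u ∈ K0 W H, orderOf u = 2 → u * x = x * u → Gd x W H u)
    (comm : ∀ m ∈ normalizer (W : Set G), cj m H = H ∨ ⁅H, cj m H⁆ ≤ W) : False := by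
  obtain ⟨S, F, i1, i2, R, -, hl⟩ := WSupB.supply P T hc hL hx
  refine false_of_rep TB hcrit (no_sign T) S hW haK (sq_of_order T.inva) (ne_one_of_order T.inva) ff R comm
    hx (sq_of_order T.invx) hl (hasFour_pair haK htK T.inva ot hne hta T.comm htx) ?_
  intro u hu huu hu1 hux
  obtain ⟨J, -, FJ, -⟩ := gd u hu (orderOf_eq_prime (by rw [pow_two]; exact huu) hu1) hux
  exact FJ.cent

/-- **`W = 1` for one component per pair**: everything of `WGlue.glue` with `W = ⊥`, `H = L` -/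
theorem glue_bot [IsSimpleGroup G] (P : Pgl G) (O : Hon.One G) (TB : TwoBal G)
    (hB : ∀ v : G, orderOf v = 2 → HasBProperty ↥(centralizer ({v} : Set G))) (hcrit : Crit G)
    (T : IsTriple x a L) (ot : orderOf t = 2) (hne : t ≠ a) (hta : t * a = a * t)
    (htx : t * x = x * t) (htL : Fixes t L)
    (comm : ∀ W H : Subgroup G, W ≠ ⊥ → core H = W → L ⊔ W = H → x ∈ M0 W H → FF W H a →
      (∀ u ∈ K0 W H, orderOf u = 2 → u * x = x * u → Gd x W H u) →
        ∀ m ∈ normalizer (W : Set G), cj m H = H ∨ ⁅H, cj m H⁆ ≤ W) :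
    core L = ⊥ ∧ Fine ⊥ a L ∧ x ∈ M0 ⊥ L ∧ a ∈ K0 ⊥ L ∧ t ∈ K0 ⊥ L ∧ FF ⊥ L a ∧
      ∀ u ∈ K0 ⊥ L, orderOf u = 2 → u * x = x * u → Gd x ⊥ L u := by
  obtain ⟨W, H, h1, h2, h3, h4, h5, h6, h7, h8⟩ := glue P O TB hB T ot hne hta htx htL
  by_cases hW : W = ⊥
  · subst hW
    rw [sup_bot_eq] at h2
    subst h2
    exact ⟨h1, h3, h4, h5, h6, h7, h8⟩
  · exact (false_of_gd P TB hcrit T h1 h2 hW h4 h5 h6 ot hne hta htx h7 h8
      (comm W H hW h1 h2 h4 h7 h8)).elim

end Cfsg.Agent.UGT.Res.WMany
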