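import Cfsg.Agent.UGT.Res.WPair

/-!
# Several points over the same `W`

`𝓗` a set of points `(W, X)`, invariant under `M = N(W)`, different members commute modulo `W`.

* `Fam.le_K0`, `Fam.mem_core_of`: an element of `⟨𝓗⟩` acting trivially on all members lies in a subgroup of odd
  order.
* `Fam.Wd_of_M0`, `Fam.Wd_eq`: `Wd U = W` for all elementary abelian `U ≤ M` with `|U| ≥ 16`.
* `Fam.mem_of_rank`: `|U| ≥ 16`, `U ≤ M ∩ M ^ g` ⟹ `g ∈ M`.
-/

set_option autoImplicit false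
set_option linter.unusedSectionVars false

open Cfsg Subgroup
open Cfsg.Agent.SignalizersComponents Cfsg.Agent.Lib
open Cfsg.Agent.SignalizersComponents.IntrinsicBasic
open Cfsg.Agent.Intrinsic.Basic Cfsg.Agent.Intrinsic.Cen Cfsg.Agent.Intrinsic.Diag
open Cfsg.Agent.McLLyComp.Act
open Cfsg.Agent.UGT.Triple Cfsg.Agent.UGT.PumpGen Cfsg.Agent.UGT.TriBase
open Cfsg.Agent.UGT.Res.Base Cfsg.Agent.UGT.Res.Abel Cfsg.Agent.UGT.Res.CoreFree
open Cfsg.Agent.UGT.Res.WFun Cfsg.Agent.UGT.Res.WPair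
open scoped commutatorElement

namespace Cfsg.Agent.UGT.Res.WMany

variable {G : Type*} [Group G]

/-- `X` contains a four-group -/
def HasFour (X : Subgroup G) : Prop :=
  ∃ V : Subgroup G, V ≤ X ∧ (∀ v ∈ V, v * v = 1) ∧ Nat.card ↥V = 4

theorem HasFour.mono {X Y : Subgroup G} (h : HasFour X) (hle : X ≤ Y) : HasFour Y := by
  obtain ⟨V, h1, h2, h3⟩ := h
  exact ⟨V, h1.trans hle, h2, h3⟩

theorem HasFour.cj {X : Subgroup G} (h : HasFour X) (g : G) : HasFour (cj g X) := by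
  obtain ⟨V, h1, h2, h3⟩ := h
  refine ⟨IntrinsicBasic.cj g V, cj_mono h1, fun v hv => ?_, by rw [← h3]; exact card_cj g V⟩
  exact sq_of_el (el_cj (el_of_sq h2) g) hv

/-- the points over `W` -/
structure Fam (W : Subgroup G) (𝓗 : Set (Subgroup G)) : Prop where
  sys : ∀ X ∈ 𝓗, Sys W X
  conj : ∀ m ∈ normalizer (W : Set G), ∀ X ∈ 𝓗, cj m X ∈ 𝓗
  comm : ∀ X ∈ 𝓗, ∀ Y ∈ 𝓗, X ≠ Y → ⁅X, Y⁆ ≤ W
  ff : ∀ X ∈ 𝓗, ∀ z ∈ K0 W X, z * z = 1 → z ≠ 1 → ∀ A : Subgroup G, A ≤ X ⊓ centralizer ({z} : Set G) →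
    (∀ a ∈ A, a * a = 1) → Nat.card ↥A = 4 → Wd (zpowers z ⊔ A) = W
  ka : ∀ X ∈ 𝓗, ∀ U : Subgroup G, U ≤ M0 W X → (∀ u ∈ U, u * u = 1) → 16 ≤ Nat.card ↥U →
    Nat.card ↥(U ⊓ K0 W X : Subgroup G) < 4 → U ⊓ K0 W X ≠ ⊥ ∧
      ∃ B : Subgroup G, B ≤ X ∧ (∀ b ∈ B, ∀ u ∈ U, b * u = u * b) ∧ (∀ b ∈ B, b * b = 1) ∧
        Nat.card ↥B = 4 ∧ ∀ b ∈ B, ∃ u ∈ U, u * b ∈ K0 W X

/-! ### generalities -/

section gen

variable [Finite G]

theorem eq_one_of_two_odd {R O : Subgroup G} (hR : IsPGroup 2 ↥R) (hO : Odd (Nat.card ↥O)) {c : G}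
    (h1 : c ∈ R) (h2 : c ∈ O) : c = 1 := by
  have hp : Fact (Nat.Prime 2) := ⟨Nat.prime_two⟩
  obtain ⟨k, hk⟩ := hR.exists_card_eq
  have h3 : orderOf c ∣ Nat.card ↥R := by
    rw [← Subgroup.orderOf_mk c h1]
    exact orderOf_dvd_natCard _
  have h4 : orderOf c ∣ Nat.card ↥O := by
    rw [← Subgroup.orderOf_mk c h2]
    exact orderOf_dvd_natCard _
  have h5 : (Nat.card ↥R).Coprime (Nat.card ↥O) := by
    rw [hk]
    exact (Nat.coprime_two_left.mpr hO).pow_left k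
  rw [← orderOf_eq_one_iff]
  exact Nat.eq_one_of_dvd_coprimes h5 h3 h4

theorem eq_one_of_sq_odd {O : Subgroup G} (hO : Odd (Nat.card ↥O)) {c : G} (h1 : c * c = 1)
    (h2 : c ∈ O) : c = 1 :=
  eq_one_of_two_odd (isPGroup_of_el (el_zpowers h1)) hO (mem_zpowers c) h2

/-- a subgroup of a Sylow subgroup -/
theorem hasFour_of_isSyl {X P : Subgroup G} (hP : IsSyl X P) (h : HasFour X) : HasFour P := by
  obtain ⟨V, h1, h2, h3⟩ := h
  obtain ⟨g, hg, h4⟩ := hP.conj (isPGroup_of_el (el_of_sq h2)) h1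
  refine ⟨cj g⁻¹ V, cj_le_iff.mp h4, fun v hv => sq_of_el (el_cj (el_of_sq h2) _) hv, ?_⟩
  rw [← h3]
  exact card_cj _ V

theorem ne_bot_of_hasFour {P : Subgroup G} (h : HasFour P) : P ≠ ⊥ := by
  rintro rfl
  obtain ⟨V, h1, h2, h3⟩ := h
  rw [le_bot_iff] at h1
  rw [h1, card_bot] at h3
  omega

/-- `V ⟨w⟩` -/
theorem card_sup_zpowers {V : Subgroup G} {w : G} (hwV : w ∉ V) : 2 * Nat.card ↥V ≤ Nat.card ↥(V ⊔ zpowers w : Subgroup G) :=
  two_mul_card_le le_sup_left fun h => hwV (by rw [h]; exact mem_sup_right (mem_zpowers w))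

theorem sq_sup_zpowers {V : Subgroup G} {w : G} (hV : ∀ v ∈ V, v * v = 1) (hw : w * w = 1)
    (hc : ∀ v ∈ V, v * w = w * v) : ∀ e ∈ V ⊔ zpowers w, e * e = 1 := by
  have h1 : IsElementaryAbelian 2 (V ⊔ zpowers w : Subgroup G) := by
    refine el_sup (el_of_sq hV) (el_zpowers hw) fun e he f hf => ?_
    rcases (mem_zpowers_of_sq hw).mp hf with rfl | rfl
    · rw [mul_one, one_mul]
    · exact hc e he
  exact fun e he => sq_of_el h1 he

/-- every involution of a 2-group with a four-group lies in a four-group -/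
theorem exists_four {P : Subgroup G} (hP : IsPGroup 2 ↥P) (h4 : HasFour P) {s : G} (hs : s ∈ P)
    (hss : s * s = 1) (h1 : s ≠ 1) :
    ∃ A : Subgroup G, A ≤ P ∧ (∀ a ∈ A, a * a = 1) ∧ Nat.card ↥A = 4 ∧ s ∈ A := by
  obtain ⟨z, hz, hzo, hzc⟩ := exists_central hP le_rfl le_normalizer (ne_bot_of_hasFour h4)
  have hzz := sq_of_order hzo
  have hz1 := ne_one_of_order hzo
  have key : ∀ u v : G, u ∈ P → v ∈ P → u * u = 1 → v * v = 1 → u ≠ 1 → v ≠ 1 → u ≠ v →
      u * v = v * u → ∃ A : Subgroup G, A ≤ P ∧ (∀ a ∈ A, a * a = 1) ∧ Nat.card ↥A = 4 ∧ u ∈ A := by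
    intro u v hu hv huu hvv hu1 hv1 huv hc
    have hV : ∀ e ∈ zpowers u, e * e = 1 := fun e he => sq_of_el (el_zpowers huu) he
    have hc' : ∀ e ∈ zpowers u, e * v = v * e := by
      intro e he
      rcases (mem_zpowers_of_sq huu).mp he with rfl | rfl
      · rw [one_mul, mul_one]
      · exact hc
    refine ⟨zpowers u ⊔ zpowers v, sup_le (zpowers_le.mpr hu) (zpowers_le.mpr hv),
      sq_sup_zpowers hV hvv hc', ?_, mem_sup_left (mem_zpowers u)⟩
    have ho : orderOf u = 2 := orderOf_eq_prime (by rw [pow_two, huu]) hu1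
    have ho' : orderOf v = 2 := orderOf_eq_prime (by rw [pow_two, hvv]) hv1
    have h5 : Nat.card ↥(zpowers u) = 2 := by rw [Nat.card_zpowers, ho]
    have h5' : Nat.card ↥(zpowers v) = 2 := by rw [Nat.card_zpowers, ho']
    have h6 : zpowers u ⊓ zpowers v = ⊥ := by
      rw [eq_bot_iff]
      intro e he
      rcases (mem_zpowers_of_sq huu).mp he.1 with rfl | rfl
      · exact one_mem _
      · rcases (mem_zpowers_of_sq hvv).mp he.2 with h7 | h7
        · exact absurd h7 hu1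
        · exact absurd h7 huv
    have h7 := card_sup_mul (A := zpowers u) (N := zpowers v) (by
      rw [zpowers_le, mem_normalizer_iff_cj]
      rw [IntrinsicBasic.cj, MonoidHom.map_zpowers]
      congr 1
      change u * v * u⁻¹ = v
      rw [hc, mul_inv_cancel_right])
    rw [h6, card_bot, h5, h5', mul_one] at h7
    exact h7
  by_cases hsz : s = z
  · obtain ⟨V, hV, hV2, hV4⟩ := h4
    obtain ⟨v, hv, hv1, hvz⟩ := exists_ne (B := V) (by omega) z
    exact key s v hs (hV hv) hss (hV2 v hv) h1 hv1 (by rw [hsz]; exact Ne.symm hvz)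
      (by rw [hsz]; exact (hzc v (hV hv)).symm)
  · exact key s z hs hz hss hzz h1 hz1 hsz (hzc s hs)

theorem odd_sup {A B : Subgroup G} (hA : Odd (Nat.card ↥A)) (hB : Odd (Nat.card ↥B))
    (h : A ≤ normalizer (B : Set G)) : Odd (Nat.card ↥(A ⊔ B : Subgroup G)) := by
  have h1 := card_sup_mul h
  have h2 : Nat.card ↥(A ⊔ B : Subgroup G) ∣ Nat.card ↥A * Nat.card ↥B := ⟨_, h1.symm⟩
  exact Odd.of_dvd_nat (hA.mul hB) h2

end gen

/-! ### the family -/

section fam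

variable [Finite G] {W : Subgroup G} {𝓗 : Set (Subgroup G)}

theorem Fam.odd_W (F : Fam W 𝓗) {X : Subgroup G} (hX : X ∈ 𝓗) : Odd (Nat.card ↥W) :=
  Odd.of_dvd_nat (odd_card_core X) (card_dvd_of_le (F.sys X hX).Wc)

/-- different members act trivially on each other -/
theorem Fam.le_K0 (F : Fam W 𝓗) {X Y : Subgroup G} (hX : X ∈ 𝓗) (hY : Y ∈ 𝓗) (hne : Y ≠ X) :
    Y ≤ K0 W X := by
  have h1 := F.comm Y hY X hX hne
  have hWX : W ≤ X := (F.sys X hX).Wc.trans (core_le X)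
  have key : ∀ y ∈ Y, ∀ x ∈ X, ⁅y, x⁆ ∈ W := fun y hy x hx => h1 (commutator_mem_commutator hy hx)
  have hn : ∀ y ∈ Y, ∀ x ∈ X, y * x * y⁻¹ ∈ X := by
    intro y hy x hx
    have h2 : y * x * y⁻¹ = ⁅y, x⁆ * x := by
      rw [commutatorElement_def]
      group
    rw [h2]
    exact mul_mem (hWX (key y hy x hx)) hx
  have hN : Y ≤ normalizer (X : Set G) := by
    intro y hy
    rw [mem_normalizer_iff]
    refine fun x => ⟨hn y hy x, fun h => ?_⟩
    have h2 := hn _ (inv_mem hy) _ h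
    have h3 : y⁻¹ * (y * x * y⁻¹) * y⁻¹⁻¹ = x := by group
    rwa [h3] at h2
  intro y hy
  exact ⟨⟨(F.sys Y hY).nW hy, hN hy⟩, hN hy, fun x hx => (F.sys X hX).Wc (key y hy x hx)⟩

theorem Fam.le_normalizer (F : Fam W 𝓗) {X Y : Subgroup G} (hX : X ∈ 𝓗) (hY : Y ∈ 𝓗) :
    Y ≤ normalizer (X : Set G) := by
  by_cases h : Y = X
  · rw [h]
    exact Subgroup.le_normalizer
  · exact fun y hy => (F.le_K0 hX hY h hy).1.2

theorem Fam.le_M0 (F : Fam W 𝓗) {X Y : Subgroup G} (hX : X ∈ 𝓗) (hY : Y ∈ 𝓗) : Y ≤ M0 W X :=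
  le_inf (F.sys Y hY).nW (F.le_normalizer hX hY)

/-- the product of all members -/
theorem Fam.normalizer_le_sSup (F : Fam W 𝓗) :
    normalizer (W : Set G) ≤ normalizer ((sSup 𝓗 : Subgroup G) : Set G) := by
  have key : ∀ m ∈ normalizer (W : Set G), sSup 𝓗 ≤ cj m (sSup 𝓗) := by
    intro m hm
    refine sSup_le fun X hX => ?_
    have h1 := F.conj m⁻¹ (inv_mem hm) X hX
    have h2 := cj_mono (g := m) (le_sSup h1)
    rwa [← cj_mul, mul_inv_cancel, cj_one] at h2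
  intro m hm
  rw [mem_normalizer_iff_cj]
  refine le_antisymm ?_ (key m hm)
  have h1 := cj_mono (g := m) (key m⁻¹ (inv_mem hm))
  rwa [← cj_mul, mul_inv_cancel, cj_one] at h1

theorem Fam.isSyl_inf (F : Fam W 𝓗) {X R : Subgroup G} (hX : X ∈ 𝓗)
    (hR : IsSyl (normalizer (W : Set G)) R) : IsSyl X (R ⊓ X) := by
  have h1 : sSup 𝓗 ≤ normalizer (W : Set G) := sSup_le fun Y hY => (F.sys Y hY).nW
  have h2 := hR.inf h1 F.normalizer_le_sSup
  have h3 := h2.inf (le_sSup hX) (sSup_le fun Y hY => F.le_normalizer hX hY)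
  rwa [inf_assoc, inf_of_le_right (le_sSup hX)] at h3

theorem cj_finset_sup (g : G) (s : Finset (Subgroup G)) (f : Subgroup G → Subgroup G) :
    cj g (s.sup f) = s.sup fun Y => cj g (f Y) := by
  classical
  induction s using Finset.induction_on with
  | empty =>
    simp only [Finset.sup_empty]
    exact Subgroup.map_bot _
  | insert a s ha ih =>
    rw [Finset.sup_insert, Finset.sup_insert, cj_sup, ih]

/-- an element of the product of `s` acting trivially on all members of `s` -/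
theorem Fam.mem_core_of (F : Fam W 𝓗) (s : Finset (Subgroup G)) (hs : ∀ X ∈ s, X ∈ 𝓗) :
    Odd (Nat.card ↥(s.sup core)) ∧
      ∀ z ∈ s.sup id, (∀ X ∈ s, z ∈ K0 W X) → z ∈ s.sup core := by
  classical
  induction s using Finset.induction_on with
  | empty =>
    refine ⟨?_, fun z hz _ => ?_⟩
    · rw [Finset.sup_empty, card_bot]
      exact odd_one
    · rw [Finset.sup_empty] at hz ⊢
      exact hz
  | insert X s hXs ih =>
    have hX : X ∈ 𝓗 := hs X (Finset.mem_insert_self X s)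
    have hs' : ∀ Y ∈ s, Y ∈ 𝓗 := fun Y hY => hs Y (Finset.mem_insert_of_mem hY)
    obtain ⟨h1, h2⟩ := ih hs'
    have hne : ∀ Y ∈ s, Y ≠ X := fun Y hY h => hXs (h ▸ hY)
    have hnX : ∀ Y ∈ s, X ≤ normalizer (Y : Set G) := fun Y hY => F.le_normalizer (hs' Y hY) hX
    rw [Finset.sup_insert, Finset.sup_insert]
    constructor
    · refine odd_sup (odd_card_core X) h1 ?_
      intro g hg
      rw [mem_normalizer_iff_cj, cj_finset_sup]
      refine Finset.sup_congr rfl fun Y hY => ?_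
      rw [← core_cj, mem_normalizer_iff_cj.mp (hnX Y hY (core_le X hg))]
    · intro z hz hK
      have hn : X ≤ normalizer ((s.sup id : Subgroup G) : Set G) := by
        intro g hg
        rw [mem_normalizer_iff_cj, cj_finset_sup]
        refine Finset.sup_congr rfl fun Y hY => ?_
        exact mem_normalizer_iff_cj.mp (hnX Y hY hg)
      obtain ⟨x, hx, z', hz', rfl⟩ := (mem_sup_left_iff hn).mp hz
      have h3 : s.sup id ≤ K0 W X :=
        Finset.sup_le fun Y hY => F.le_K0 hX (hs' Y hY) (hne Y hY)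
      have h4 : x ∈ K0 W X := by
        have h5 := mul_mem (hK X (Finset.mem_insert_self X s)) (inv_mem (h3 hz'))
        rwa [mul_inv_cancel_right] at h5
      have h5 : x ∈ core X := by
        rw [← (F.sys X hX).inf_K0]
        exact ⟨hx, h4⟩
      have h6 : z' ∈ s.sup core := by
        refine h2 z' hz' fun Y hY => ?_
        have h7 := mul_mem (inv_mem (F.le_K0 (hs' Y hY) hX (hne Y hY).symm hx))
          (hK Y (Finset.mem_insert_of_mem hY))
        rwa [inv_mul_cancel_left] at h7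
      exact mul_mem (mem_sup_left h5) (mem_sup_right h6)

/-- no involution of the product of all members acts trivially on all members -/
theorem Fam.eq_one_of (F : Fam W 𝓗) {c : G} (hc : c ∈ sSup 𝓗) (hcc : c * c = 1)
    (hK : ∀ X ∈ 𝓗, c ∈ K0 W X) : c = 1 := by
  classical
  have hfin : 𝓗.Finite := Set.toFinite 𝓗
  obtain ⟨h1, h2⟩ := F.mem_core_of hfin.toFinset fun X hX => hfin.mem_toFinset.mp hX
  have h3 : hfin.toFinset.sup id = sSup 𝓗 := by
    rw [Finset.sup_id_eq_sSup, hfin.coe_toFinset]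
  rw [h3] at h2
  exact eq_one_of_sq_odd h1 hcc (h2 c hc fun X hX => hK X (hfin.mem_toFinset.mp hX))

theorem Fam.eq_one_of_mem (F : Fam W 𝓗) {X : Subgroup G} (hX : X ∈ 𝓗) {c : G} (hcX : c ∈ X)
    (hcc : c * c = 1) (hK : c ∈ K0 W X) : c = 1 := by
  refine eq_one_of_sq_odd (odd_card_core X) hcc ?_
  rw [← (F.sys X hX).inf_K0]
  exact ⟨hcX, hK⟩

/-- in a 2-group, `c ∈ K0 W X` commutes with the elements of `X` -/
theorem comm_of_K0 {R X : Subgroup G} (hR : IsPGroup 2 ↥R) {c p : G} (hc : c ∈ R)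
    (hcK : c ∈ K0 W X) (hp : p ∈ R) (hpX : p ∈ X) : c * p = p * c := by
  have h1 : ⁅c, p⁆ ∈ core X := hcK.2.2 p hpX
  have h2 : ⁅c, p⁆ ∈ R := by
    rw [commutatorElement_def]
    exact mul_mem (mul_mem (mul_mem hc hp) (inv_mem hc)) (inv_mem hp)
  exact commutatorElement_eq_one_iff_mul_comm.mp (eq_one_of_two_odd hR (odd_card_core X) h2 h1)

/-! ### `Wd U = W` -/

theorem Fam.four_K0 (F : Fam W 𝓗) {X : Subgroup G} (hX : X ∈ 𝓗) : HasFour X := (F.sys X hX).four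

/-- a Sylow 2-subgroup of `U X` containing `U` -/
theorem exists_R {X U : Subgroup G} (hU : U ≤ M0 W X) (hU2 : IsPGroup 2 ↥U) : ∃ R : Subgroup G, IsPGroup 2 ↥R ∧ U ≤ R ∧
      R ≤ normalizer ((R ⊓ X : Subgroup G) : Set G) ∧ IsSyl X (R ⊓ X) := by
  obtain ⟨R, hR, hUR⟩ := exists_isSyl (E := U ⊔ X) hU2 le_sup_left
  have hn : U ⊔ X ≤ normalizer (X : Set G) :=
    sup_le (fun u hu => (hU hu).2) Subgroup.le_normalizer
  refine ⟨R, hR.two, hUR, ?_, hR.inf le_sup_right hn⟩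
  intro r hr
  rw [mem_normalizer_iff_cj, cj_inf, cj_eq_self_of_mem hr, mem_normalizer_iff_cj.mp (hn (hR.le hr))]

theorem Fam.Wd_of_K0 (T : TwoBal G) (F : Fam W 𝓗) {X U : Subgroup G} (hX : X ∈ 𝓗)
    (hU : U ≤ M0 W X) (hU2 : ∀ u ∈ U, u * u = 1) (h16 : 16 ≤ Nat.card ↥U)
    (h4 : 4 ≤ Nat.card ↥(U ⊓ K0 W X : Subgroup G)) : Wd U = W := by
  have hUe := el_of_sq hU2
  obtain ⟨R, hR, hUR, hRn, hP⟩ := exists_R hU (isPGroup_of_el hUe)
  have hP4 := hasFour_of_isSyl hP (F.four_K0 hX)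
  obtain ⟨s, hs, hso, hsc⟩ := exists_central hR inf_le_left hRn (ne_bot_of_hasFour hP4)
  have hss := sq_of_order hso
  have hs1 := ne_one_of_order hso
  obtain ⟨A, hAP, hA2, hA4, hsA⟩ := exists_four hP.two hP4 hs hss hs1
  obtain ⟨D, hD⟩ : ∃ D, D = U ⊓ K0 W X := ⟨_, rfl⟩
  have hDU : D ≤ U := by rw [hD]; exact inf_le_left
  have hDK : D ≤ K0 W X := by rw [hD]; exact inf_le_right
  rw [← hD] at h4
  have hDe : IsElementaryAbelian 2 D := el_mono hUe hDU
  have hDA : ∀ d ∈ D, ∀ a ∈ A, d * a = a * d := fun d hd a ha =>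
    comm_of_K0 hR (hUR (hDU hd)) (hDK hd) (hAP ha).1 (hAP ha).2
  have hUs : ∀ u ∈ U, u * s = s * u := fun u hu => hsc u (hUR hu)
  -- `U ⟨s⟩`
  have e1 : IsElementaryAbelian 2 (U ⊔ zpowers s : Subgroup G) :=
    el_of_sq (sq_sup_zpowers hU2 hss hUs)
  have c1 : 16 ≤ Nat.card ↥(U ⊔ zpowers s : Subgroup G) :=
    h16.trans (Nat.le_of_dvd Nat.card_pos (card_dvd_of_le le_sup_left))
  have hsD : s ∉ D := fun h => hs1 (F.eq_one_of_mem hX hs.2 hss (hDK h))
  have c2 : 8 ≤ Nat.card ↥(D ⊔ zpowers s : Subgroup G) := by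
    have := card_sup_zpowers hsD
    omega
  have l1 : D ⊔ zpowers s ≤ U ⊔ zpowers s := sup_le_sup_right hDU _
  -- `D A`
  have e3 : IsElementaryAbelian 2 (D ⊔ A : Subgroup G) := el_sup hDe (el_of_sq hA2) hDA
  have hDAb : D ⊓ A = ⊥ := by
    rw [eq_bot_iff]
    intro c hc
    exact F.eq_one_of_mem hX (hAP hc.2).2 (hA2 c hc.2) (hDK hc.1)
  have c3 : 16 ≤ Nat.card ↥(D ⊔ A : Subgroup G) := by
    have := card_mul_le_sup hDAb
    rw [hA4] at this
    omega
  have l2 : D ⊔ zpowers s ≤ D ⊔ A := sup_le_sup_left (zpowers_le.mpr hsA) _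
  obtain ⟨z, hz, hz1, -⟩ := exists_ne h4 1
  have hzz := sq_of_el hDe hz
  have l3 : zpowers z ⊔ A ≤ D ⊔ A := sup_le_sup_right (zpowers_le.mpr hz) _
  have hzA : z ∉ A := fun h => hz1 (F.eq_one_of_mem hX (hAP h).2 hzz (hDK hz))
  have c4 : 8 ≤ Nat.card ↥(zpowers z ⊔ A : Subgroup G) := by
    have := card_sup_zpowers hzA
    rw [sup_comm]
    omega
  have c0 : 8 ≤ Nat.card ↥U := by omega
  rw [WFun.Wd_eq T e1 c1 le_sup_left c0, ← WFun.Wd_eq T e1 c1 l1 c2, WFun.Wd_eq T e3 c3 l2 c2,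
    ← WFun.Wd_eq T e3 c3 l3 c4]
  exact F.ff X hX z (hDK hz) hzz hz1 A (le_inf (hAP.trans inf_le_right) fun a ha =>
    mem_centralizer_singleton_iff.mpr (hDA z hz a ha).symm) hA2 hA4

theorem Fam.Wd_of_M0 (T : TwoBal G) (F : Fam W 𝓗) {X U : Subgroup G} (hX : X ∈ 𝓗)
    (hU : U ≤ M0 W X) (hU2 : ∀ u ∈ U, u * u = 1) (h16 : 16 ≤ Nat.card ↥U) : Wd U = W := by
  have hUe := el_of_sq hU2
  by_cases h4 : 4 ≤ Nat.card ↥(U ⊓ K0 W X : Subgroup G)
  · exact F.Wd_of_K0 T hX hU hU2 h16 h4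
  obtain ⟨hne, B, hBX, hBU, hB2, hB4, hBK⟩ := F.ka X hX U hU hU2 h16 (not_le.mp h4)
  obtain ⟨⟨z, hz⟩, hz1'⟩ := (ne_bot_iff_exists_ne_one).mp hne
  have hz1 : z ≠ 1 := fun h => hz1' (Subtype.ext h)
  by_cases hle : B ≤ U
  · have hzz := hU2 z hz.1
    have hzB : z ∉ B := fun h => hz1 (F.eq_one_of_mem hX (hBX h) hzz hz.2)
    have c4 : 8 ≤ Nat.card ↥(zpowers z ⊔ B : Subgroup G) := by
      have := card_sup_zpowers hzB
      rw [sup_comm]
      omega
    have l3 : zpowers z ⊔ B ≤ U := sup_le (zpowers_le.mpr hz.1) hle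
    rw [← WFun.Wd_eq T hUe h16 l3 c4]
    exact F.ff X hX z hz.2 hzz hz1 B (le_inf hBX fun a ha =>
      mem_centralizer_singleton_iff.mpr (hBU a ha z hz.1)) hB2 hB4
  · have e1 : IsElementaryAbelian 2 (U ⊔ B : Subgroup G) :=
      el_sup hUe (el_of_sq hB2) fun u hu b hb => (hBU b hb u hu).symm
    have c1 : 16 ≤ Nat.card ↥(U ⊔ B : Subgroup G) :=
      h16.trans (Nat.le_of_dvd Nat.card_pos (card_dvd_of_le le_sup_left))
    obtain ⟨b, hb, hbU⟩ := SetLike.not_le_iff_exists.mp hle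
    obtain ⟨u, hu, hub⟩ := hBK b hb
    have h5 : u * b ∉ U := fun h => hbU ((mul_mem_cancel_left hu).mp h)
    have h6 : U ⊓ K0 W X ≤ (U ⊔ B) ⊓ K0 W X := inf_le_inf_right _ le_sup_left
    have h7 : U ⊓ K0 W X ≠ (U ⊔ B) ⊓ K0 W X := fun h => h5 (by
      have : u * b ∈ (U ⊔ B) ⊓ K0 W X := ⟨mul_mem (mem_sup_left hu) (mem_sup_right hb), hub⟩
      rw [← h] at this
      exact this.1)
    have h8 := two_mul_card_le h6 h7
    have h9 : 2 ≤ Nat.card ↥(U ⊓ K0 W X : Subgroup G) := by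
      have h10 : 1 < Nat.card ↥(U ⊓ K0 W X : Subgroup G) := by
        rw [Nat.one_lt_iff_ne_zero_and_ne_one]
        refine ⟨Nat.card_pos.ne', fun h => hne (card_eq_one.mp h)⟩
      omega
    have h10 := F.Wd_of_K0 T hX (sup_le hU (hBX.trans (F.le_M0 hX hX)))
      (fun e he => sq_of_el e1 he) c1 (by omega)
    rw [WFun.Wd_eq T e1 c1 le_sup_left (by omega), h10]

/-- a hyperplane of `U` containing `U₁` -/
theorem exists_hyperplane {U U₁ : Subgroup G} (hU : ∀ u ∈ U, u * u = 1) (hle : U₁ ≤ U)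
    (hne : U₁ ≠ U) : ∃ U₂ : Subgroup G, U₁ ≤ U₂ ∧ U₂ ≤ U ∧ 2 * Nat.card ↥U₂ = Nat.card ↥U := by
  classical
  obtain ⟨U₂, h2⟩ := (Set.toFinite {V : Subgroup G | U₁ ≤ V ∧ V ≤ U ∧ V ≠ U}).exists_maximal
    ⟨U₁, le_rfl, hle, hne⟩
  obtain ⟨⟨h3, h4, h5⟩, hmax⟩ := h2
  have h6 : ¬ U ≤ U₂ := fun h => h5 (le_antisymm h4 h)
  obtain ⟨v, hv, hv2⟩ := SetLike.not_le_iff_exists.mp h6
  refine ⟨U₂, h3, h4, ?_⟩
  have h7 : U₂ ⊔ zpowers v = U := by
    by_contra h
    have h8 := hmax (⟨h3.trans le_sup_left, sup_le h4 (zpowers_le.mpr hv), h⟩ :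
      U₂ ⊔ zpowers v ∈ {V : Subgroup G | U₁ ≤ V ∧ V ≤ U ∧ V ≠ U}) le_sup_left
    exact hv2 (h8 (mem_sup_right (mem_zpowers v)))
  have h8 := card_sup_zpowers hv2
  rw [h7] at h8
  have hvv := hU v hv
  have h9 : zpowers v ≤ normalizer (U₂ : Set G) := by
    rw [zpowers_le]
    refine centralizer_le_normalizer _ ?_
    rw [mem_centralizer_iff]
    intro a ha
    exact comm_of_el (el_of_sq hU) (h4 ha) hv
  have h10 := card_sup_mul h9
  rw [sup_comm, h7] at h10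
  have h11 : Nat.card ↥(zpowers v) ≤ 2 := by
    rw [Nat.card_zpowers]
    exact orderOf_le_of_pow_eq_one (by norm_num) (by rw [pow_two, hvv])
  have h12 : 0 < Nat.card ↥(zpowers v ⊓ U₂ : Subgroup G) := Nat.card_pos
  have h13 : Nat.card ↥U ≤ 2 * Nat.card ↥U₂ := by
    calc Nat.card ↥U = Nat.card ↥U * 1 := (mul_one _).symm
      _ ≤ Nat.card ↥U * Nat.card ↥(zpowers v ⊓ U₂ : Subgroup G) := Nat.mul_le_mul_left _ h12
      _ = Nat.card ↥(zpowers v) * Nat.card ↥U₂ := h10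
      _ ≤ 2 * Nat.card ↥U₂ := Nat.mul_le_mul_right _ h11
  omega

/-- **`Wd U = W` for all elementary abelian `U ≤ M` of order at least 16.** -/
theorem Fam.Wd_aux (T : TwoBal G) (F : Fam W 𝓗) {X : Subgroup G} (hX : X ∈ 𝓗) (k : ℕ) :
    ∀ U : Subgroup G, U ≤ normalizer (W : Set G) → (∀ u ∈ U, u * u = 1) → 16 ≤ Nat.card ↥U →
      Nat.card ↥U ≤ 2 ^ k * Nat.card ↥(U ⊓ normalizer (X : Set G) : Subgroup G) → Wd U = W := by
  induction k with
  | zero =>
    intro U hU hU2 h16 hk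
    rw [pow_zero, one_mul] at hk
    have h1 := Subgroup.eq_of_le_of_card_ge (inf_le_left : U ⊓ normalizer (X : Set G) ≤ U) hk
    exact F.Wd_of_M0 T hX (le_inf hU (inf_eq_left.mp h1)) hU2 h16
  | succ k ih =>
    intro U hU hU2 h16 hk
    have hUe := el_of_sq hU2
    obtain ⟨U₁, hU₁⟩ : ∃ U₁, U₁ = U ⊓ normalizer (X : Set G) := ⟨_, rfl⟩
    rw [← hU₁] at hk
    by_cases hN : U₁ = U
    · exact F.Wd_of_M0 T hX (le_inf hU (inf_eq_left.mp (hU₁.symm.trans hN))) hU2 h16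
    obtain ⟨U₂, h12, h2U, h2c⟩ := exists_hyperplane hU2 (by rw [hU₁]; exact inf_le_left) hN
    have h2e := el_mono hUe h2U
    have h2ne : ¬ U ≤ U₂ := fun h => by
      have := Nat.le_of_dvd Nat.card_pos (card_dvd_of_le h)
      have h0 : 0 < Nat.card ↥U₂ := Nat.card_pos
      omega
    obtain ⟨v, hv, hv2⟩ := SetLike.not_le_iff_exists.mp h2ne
    obtain ⟨R, hR, hUR⟩ := exists_isSyl (E := normalizer (W : Set G)) (isPGroup_of_el hUe) hU
    have hP := F.isSyl_inf hX hR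
    have hP4 := hasFour_of_isSyl hP (F.four_K0 hX)
    have hcjm : ∀ u ∈ U, cj u X ∈ 𝓗 := fun u hu => F.conj u (hU hu) X hX
    -- the product of the conjugates of `X` under `U₂`
    obtain ⟨D, hD⟩ : ∃ D : Subgroup G, D = ⨆ u : ↥U₂, cj (u : G) X := ⟨_, rfl⟩
    have hXD : X ≤ D := by
      rw [hD]
      refine le_trans ?_ (le_iSup _ (1 : ↥U₂))
      rw [coe_one, cj_one]
    have hcjD : ∀ g : G, ∀ c ∈ cj g D, ∀ Z ∈ 𝓗, (∀ u ∈ U₂, cj (g * u) X ≠ Z) → (∀ u ∈ U₂, cj (g * u) X ∈ 𝓗) →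
        c ∈ K0 W Z := by
      intro g c hc Z hZ hne hmem
      have h3 : cj g D ≤ K0 W Z := by
        rw [hD, IntrinsicBasic.cj, Subgroup.map_iSup]
        refine iSup_le fun u => ?_
        change cj g (cj (u : G) X) ≤ _
        rw [← cj_mul]
        exact F.le_K0 hZ (hmem u u.2) (hne u u.2)
      exact h3 hc
    have hDn : ∀ u ∈ U₂, cj u D = D := by
      have key : ∀ u ∈ U₂, cj u D ≤ D := by
        intro u hu
        rw [hD, IntrinsicBasic.cj, Subgroup.map_iSup]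
        refine iSup_le fun w => ?_
        change cj u (cj (w : G) X) ≤ _
        rw [← cj_mul]
        exact le_iSup (fun w : ↥U₂ => cj (w : G) X) ⟨u * w, mul_mem hu w.2⟩
      intro u hu
      refine le_antisymm (key u hu) ?_
      have h3 := cj_mono (g := u) (key u⁻¹ (inv_mem hu))
      rwa [← cj_mul, mul_inv_cancel, cj_one] at h3
    have hDS : D ≤ sSup 𝓗 := by
      rw [hD]
      exact iSup_le fun u => le_sSup (hcjm u (h2U u.2))
    -- an involution of `R ∩ D` commuting with `U₂`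
    have hNT : U₂ ≤ normalizer ((R ⊓ D : Subgroup G) : Set G) := by
      intro u hu
      rw [mem_normalizer_iff_cj, cj_inf, hDn u hu, cj_eq_self_of_mem (hUR (h2U hu))]
    have hT2 : IsPGroup 2 ↥(U₂ ⊔ (R ⊓ D) : Subgroup G) :=
      hR.two.to_le (sup_le (h2U.trans hUR) inf_le_left)
    obtain ⟨b, hb, hbo, hbc⟩ := exists_central hT2 le_sup_right
      (sup_le hNT Subgroup.le_normalizer) (fun h => ne_bot_of_hasFour hP4 (by
        rw [eq_bot_iff] at h ⊢
        exact (inf_le_inf_left R hXD).trans h))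
    have hbb := sq_of_order hbo
    have hb1 := ne_one_of_order hbo
    have hbU₂ : ∀ u ∈ U₂, u * b = b * u := fun u hu => hbc u (mem_sup_left hu)
    have hbX : b ∈ normalizer (X : Set G) := by
      have h3 : sSup 𝓗 ≤ normalizer (X : Set G) := sSup_le fun Y hY => F.le_normalizer hX hY
      exact h3 (hDS hb.2)
    -- `b ∉ U`
    have hbU : b ∉ U := by
      intro hbU
      apply hb1
      refine F.eq_one_of (hDS hb.2) hbb fun Z hZ => ?_
      by_cases hZ1 : ∃ u ∈ U₂, cj u X = Z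
      · obtain ⟨u₀, hu₀, hZu⟩ := hZ1
        have hbv : b ∈ cj v D := by
          rw [mem_cj]
          have h4 : v⁻¹ * b * v = b := by
            rw [mul_assoc, comm_of_el hUe hbU hv, inv_mul_cancel_left]
          rw [h4]
          exact hb.2
        refine hcjD v b hbv Z hZ ?_ (fun u hu => hcjm _ (mul_mem hv (h2U hu)))
        intro u hu h4
        apply hv2
        have h5 : cj (u₀⁻¹ * (v * u)) X = X := by
          rw [cj_mul, h4, ← hZu, ← cj_mul, inv_mul_cancel, cj_one]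
        have h6 : u₀⁻¹ * (v * u) ∈ U₁ := by
          rw [hU₁]
          exact mem_inf.mpr ⟨mul_mem (inv_mem (h2U hu₀)) (mul_mem hv (h2U hu)),
            mem_normalizer_iff_cj.mpr h5⟩
        have h7 := mul_mem (mul_mem hu₀ (h12 h6)) (inv_mem hu)
        have h8 : u₀ * (u₀⁻¹ * (v * u)) * u⁻¹ = v := by group
        rwa [h8] at h7
      · push Not at hZ1
        have h4 : b ∈ cj (1 : G) D := by
          rw [cj_one]
          exact hb.2
        refine hcjD 1 b h4 Z hZ ?_ ?_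
        · intro u hu
          rw [one_mul]
          exact hZ1 u hu
        · intro u hu
          rw [one_mul]
          exact hcjm u (h2U hu)
    -- `U' = U₂ ⟨b⟩`
    have e1 : IsElementaryAbelian 2 (U₂ ⊔ zpowers b : Subgroup G) :=
      el_of_sq (sq_sup_zpowers (fun u hu => hU2 u (h2U hu)) hbb hbU₂)
    have c1 := card_sup_zpowers (V := U₂) (w := b) fun h => hbU (h2U h)
    have c2 : Nat.card ↥(U₂ ⊔ zpowers b : Subgroup G) ≤ 2 * Nat.card ↥U₂ := by
      have h9 : zpowers b ≤ normalizer (U₂ : Set G) := by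
        rw [zpowers_le]
        refine centralizer_le_normalizer _ ?_
        rw [mem_centralizer_iff]
        exact fun a ha => hbU₂ a ha
      have h10 := card_sup_mul h9
      rw [sup_comm] at h10
      have h11 : Nat.card ↥(zpowers b) ≤ 2 := by
        rw [Nat.card_zpowers]
        exact orderOf_le_of_pow_eq_one (by norm_num) (by rw [pow_two, hbb])
      have h12 : 0 < Nat.card ↥(zpowers b ⊓ U₂ : Subgroup G) := Nat.card_pos
      calc Nat.card ↥(U₂ ⊔ zpowers b : Subgroup G)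
          = Nat.card ↥(U₂ ⊔ zpowers b : Subgroup G) * 1 := (mul_one _).symm
        _ ≤ Nat.card ↥(U₂ ⊔ zpowers b : Subgroup G) * Nat.card ↥(zpowers b ⊓ U₂ : Subgroup G) :=
          Nat.mul_le_mul_left _ h12
        _ = Nat.card ↥(zpowers b) * Nat.card ↥U₂ := h10
        _ ≤ 2 * Nat.card ↥U₂ := Nat.mul_le_mul_right _ h11
    have c3 : 2 * Nat.card ↥U₁ ≤
        Nat.card ↥((U₂ ⊔ zpowers b) ⊓ normalizer (X : Set G) : Subgroup G) := by
      refine (card_sup_zpowers (V := U₁) (w := b) fun h => hbU (h2U (h12 h))).trans ?_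
      refine Nat.le_of_dvd Nat.card_pos (card_dvd_of_le (sup_le ?_ ?_))
      · refine le_inf (h12.trans le_sup_left) ?_
        rw [hU₁]
        exact inf_le_right
      · rw [zpowers_le]
        exact ⟨mem_sup_right (mem_zpowers b), hbX⟩
    have h3 := ih (U₂ ⊔ zpowers b) (sup_le (h2U.trans hU) (zpowers_le.mpr (hR.le hb.1)))
      (fun e he => sq_of_el e1 he) (by omega) (by
        have h4 : 2 ^ (k + 1) * Nat.card ↥U₁ = 2 ^ k * (2 * Nat.card ↥U₁) := by ring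
        have h5 := Nat.mul_le_mul_left (2 ^ k) c3
        omega)
    rw [← WFun.Wd_eq T hUe h16 h2U (by omega), WFun.Wd_eq T e1 (by omega) le_sup_left (by omega), h3]

theorem Fam.Wd_eq (T : TwoBal G) (F : Fam W 𝓗) {X : Subgroup G} (hX : X ∈ 𝓗) {U : Subgroup G}
    (hU : U ≤ normalizer (W : Set G)) (hU2 : ∀ u ∈ U, u * u = 1) (h16 : 16 ≤ Nat.card ↥U) :
    Wd U = W := by
  refine F.Wd_aux T hX (Nat.card ↥U) U hU hU2 h16 ?_
  have h1 : 0 < Nat.card ↥(U ⊓ normalizer (X : Set G) : Subgroup G) := Nat.card_pos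
  calc Nat.card ↥U ≤ 2 ^ Nat.card ↥U := Nat.lt_two_pow_self.le
    _ = 2 ^ Nat.card ↥U * 1 := (mul_one _).symm
    _ ≤ _ := Nat.mul_le_mul_left _ h1

/-- **`m(M ∩ M ^ g) ≤ 3` for `g ∉ M`** -/
theorem Fam.mem_of_rank (T : TwoBal G) (F : Fam W 𝓗) {X : Subgroup G} (hX : X ∈ 𝓗)
    {U : Subgroup G} (hU : U ≤ normalizer (W : Set G)) (hU2 : ∀ u ∈ U, u * u = 1)
    (h16 : 16 ≤ Nat.card ↥U) {g : G} (hg : cj g U ≤ normalizer (W : Set G)) :
    g ∈ normalizer (W : Set G) := by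
  have h1 := F.Wd_eq T hX hU hU2 h16
  have h2 := F.Wd_eq T hX hg (fun e he => sq_of_el (el_cj (el_of_sq hU2) g) he)
    (by rw [show Nat.card ↥(cj g U) = _ from card_cj g U]; exact h16)
  rw [← cj_Wd, h1] at h2
  exact mem_normalizer_iff_cj.mpr h2

/-- a subgroup of odd order invariant under an elementary group of order at least 16 -/
theorem Fam.le_of_odd (T : TwoBal G) (F : Fam W 𝓗) {X : Subgroup G} (hX : X ∈ 𝓗)
    {U N : Subgroup G} (hU : U ≤ normalizer (W : Set G)) (hU2 : ∀ u ∈ U, u * u = 1)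
    (h16 : 16 ≤ Nat.card ↥U) (hN : Odd (Nat.card ↥N)) (hn : U ≤ normalizer (N : Set G)) :
    N ≤ normalizer (W : Set G) := by
  have h1 := WFun.le_of_odd T (el_of_sq hU2) h16 hN hn
  rwa [F.Wd_eq T hX hU hU2 h16] at h1

end fam

end Cfsg.Agent.UGT.Res.WMany
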