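import Cfsg.Agent.UGT.Res.WMany.Rank
import Cfsg.Agent.AschCrit.Pure
import Cfsg.Agent.Cit.TwoB.ZMod
import Cfsg.Agent.TwoFusion.StronglyEmbeddedBasic

/-!
# Several points over `W`: the contradiction

`Fam.false_of`: `G` simple, `W ≠ 1`, the members of `𝓗` have one class of involutions, `C(t) ≤ N(W)` for an
involution `t` of a member, `x` of type PGL on a member, and every element of type PGL on a member (with a
four-group of `C(x)` acting trivially on this member) is of type PGL on another one.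
-/

set_option autoImplicit false
set_option linter.unusedSectionVars false

open Cfsg Subgroup
open Cfsg.Agent.SignalizersComponents Cfsg.Agent.Lib
open Cfsg.Agent.SignalizersComponents.IntrinsicBasic
open Cfsg.Agent.Intrinsic.Basic Cfsg.Agent.Intrinsic.Cen Cfsg.Agent.Intrinsic.Diag
open Cfsg.Agent.McLLyComp.Act
open Cfsg.Agent.UGT.Triple Cfsg.Agent.UGT.PumpGen Cfsg.Agent.UGT.TriBase
open Cfsg.Agent.UGT.Res.Base Cfsg.Agent.UGT.Res.Abel Cfsg.Agent.UGT.Res.CoreFree
open Cfsg.Agent.UGT.Res.WFun Cfsg.Agent.UGT.Res.WPair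
open scoped commutatorElement

namespace Cfsg.Agent.UGT.Res.WMany

variable {G : Type*} [Group G]

/-- the elements of PGL type: `P Z u` if `u` is an involution of `M0 W Z` of PGL type on `Z / O(Z)` -/
structure PT (W : Subgroup G) (𝓗 : Set (Subgroup G)) (P : Subgroup G → G → Prop) : Prop where
  mem : ∀ Z ∈ 𝓗, ∀ u, P Z u → u ∈ M0 W Z
  sq : ∀ Z ∈ 𝓗, ∀ u, P Z u → u * u = 1
  nK : ∀ Z ∈ 𝓗, ∀ u, P Z u → u ∉ K0 W Z
  tr : ∀ Z ∈ 𝓗, ∀ x r, P Z x → r ∈ M0 W Z → r * r = 1 → r * x ∈ K0 W Z → P Z r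
  kd : ∀ Z ∈ 𝓗, ∀ u, P Z u → ∀ U : Subgroup G, U ≤ M0 W Z → (∀ e ∈ U, e * e = 1) → u ∈ U →
    Nat.card ↥U ≤ 4 * Nat.card ↥(U ⊓ K0 W Z : Subgroup G)
  other : ∀ Z ∈ 𝓗, ∀ f, P Z f → HasFour (K0 W Z ⊓ centralizer ({f} : Set G)) →
    ∃ Z' ∈ 𝓗, Z' ≠ Z ∧ P Z' f

/-- `C_M(v)` has 2-rank at least 4 for all involutions `v ∈ M` -/
def HR (W : Subgroup G) : Prop :=
  ∀ v ∈ normalizer (W : Set G), v * v = 1 → ∃ U : Subgroup G, U ≤ normalizer (W : Set G) ∧
    (∀ u ∈ U, u * u = 1) ∧ 16 ≤ Nat.card ↥U ∧ ∀ u ∈ U, u * v = v * u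

/-- Aschbacher's criterion (S1175) -/
def Crit (G : Type*) [Group G] : Prop :=
  ∀ (M : Subgroup G), M ≠ ⊤ → ∀ z : G, orderOf z = 2 → z ∈ M →
    (∃ S : Sylow 2 G, z ∈ S ∧ ∀ s ∈ S, Commute s z) → (∀ g : G, g * z * g⁻¹ ∈ M → g ∈ M) →
    (∀ g : G, Commute z (g * z * g⁻¹) → g * z * g⁻¹ ≠ z →
      Subgroup.centralizer ({z * (g * z * g⁻¹)} : Set G) ≤ M) →
    ∃ H : Subgroup G, Cfsg.IsStronglyEmbedded H

variable [Finite G] {W : Subgroup G} {𝓗 : Set (Subgroup G)}

/-! ### two members -/

theorem Fam.four_of_K0 (F : Fam W 𝓗) {X : Subgroup G} (hX : X ∈ 𝓗) {c : G} (hc : c ∈ K0 W X)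
    (hcc : c * c = 1) : HasFour (X ⊓ centralizer ({c} : Set G)) := by
  obtain ⟨R, hR, hUR, -, hP⟩ := exists_R (W := W) (X := X) (zpowers_le.mpr (K0_le hc))
    (isPGroup_of_el (el_zpowers hcc))
  refine (hasFour_of_isSyl hP (F.four_K0 hX)).mono fun p hp => mem_inf.mpr ⟨hp.2, ?_⟩
  exact mem_centralizer_singleton_iff.mpr
    (comm_of_K0 hR (hUR (mem_zpowers c)) hc hp.1 hp.2).symm

theorem Fam.false_of_two (F : Fam W 𝓗) {P : Subgroup G → G → Prop} (Q : PT W 𝓗 P)
    {X Y : Subgroup G} (hX : X ∈ 𝓗) (hY : Y ∈ 𝓗)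
    (hXY : X ≠ Y) (hall : ∀ Z ∈ 𝓗, Z = X ∨ Z = Y) (hKK : ∀ f ∈ KK W 𝓗, f * f = 1 → f = 1)
    {x : G} (hx : P X x) (hR : HasFour (K0 W X ⊓ centralizer ({x} : Set G))) : False := by
  obtain ⟨Z', hZ', hne', hPG'⟩ := Q.other X hX x hx hR
  obtain rfl : Z' = Y := (hall Z' hZ').resolve_left hne'
  obtain ⟨R₀, hR₀, hR2, hR4⟩ := hR
  have hxK := Q.nK X hX x hx
  have hxx := Q.sq X hX x hx
  have hRx : ∀ r ∈ R₀, r * x = x * r := fun r hr => comm_c (hR₀ hr).2
  have hxR : x ∉ R₀ := fun h => hxK (hR₀ h).1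
  have hU2 := sq_sup_zpowers hR2 hxx hRx
  have c8 : 8 ≤ Nat.card ↥(R₀ ⊔ zpowers x : Subgroup G) := by
    have := card_sup_zpowers hxR
    omega
  have hRY : R₀ ≤ M0 W Z' := by
    intro r hr
    have h1 := K0_le (hR₀ hr).1
    refine ⟨h1.1, mem_normalizer_iff_cj.mpr ?_⟩
    rcases hall _ (F.conj r h1.1 Z' hY) with h2 | h2
    · exfalso
      apply hXY
      have h3 := mem_normalizer_iff_cj.mp h1.2
      exact (cj_injective r (h2.trans h3.symm)).symm
    · exact h2
  have hUY : R₀ ⊔ zpowers x ≤ M0 W Z' := sup_le hRY (zpowers_le.mpr (Q.mem Z' hY x hPG'))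
  have h1 := Q.kd Z' hY x hPG' _ hUY hU2 (mem_sup_right (mem_zpowers x))
  have h2 : (R₀ ⊔ zpowers x) ⊓ K0 W Z' ≠ ⊥ := by
    intro h
    rw [h, card_bot] at h1
    omega
  obtain ⟨⟨f', hf'⟩, hf1'⟩ := (ne_bot_iff_exists_ne_one).mp h2
  have hf1 : f' ≠ 1 := fun h => hf1' (Subtype.ext h)
  have hcz : ∀ e ∈ R₀, ∀ f ∈ zpowers x, e * f = f * e := by
    intro e he f hf
    rcases (mem_zpowers_of_sq hxx).mp hf with rfl | rfl
    · rw [mul_one, one_mul]
    · exact hRx e he
  obtain ⟨r, hr, w, hw, hrw⟩ := (mem_sup_of_comm hcz).mp hf'.1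
  have hmem : ∀ r ∈ R₀, r ∈ K0 W Z' → r = 1 := by
    intro r hr hrY
    refine hKK r ?_ (hR2 r hr)
    rw [mem_KK]
    refine ⟨(K0_le hrY).1, fun Z hZ => ?_⟩
    rcases hall Z hZ with rfl | rfl
    · exact (hR₀ hr).1
    · exact hrY
  have hwx : w = x := by
    rcases (mem_zpowers_of_sq hxx).mp hw with h | h
    · exfalso
      rw [h, mul_one] at hrw
      have h3 : f' ∈ K0 W Z' := hf'.2
      rw [← hrw] at h3 hf1
      exact hf1 (hmem r hr h3)
    · exact h
  rw [hwx] at hrw
  have hrxK : r * x ∈ K0 W Z' := by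
    rw [hrw]
    exact hf'.2
  have hrPG := Q.tr Z' hY x r hPG' (hRY hr) (hR2 r hr) hrxK
  have hXr := F.four_of_K0 hX (hR₀ hr).1 (hR2 r hr)
  obtain ⟨Z, hZ, hZne, hZPG⟩ := Q.other Z' hY r hrPG
    (hXr.mono (inf_le_inf_right _ (F.le_K0 hY hX hXY)))
  obtain rfl : Z = X := (hall Z hZ).resolve_right hZne
  exact Q.nK Z hX r hZPG (hR₀ hr).1

theorem Fam.rank (F : Fam W 𝓗) {P : Subgroup G → G → Prop} (Q : PT W 𝓗 P) {X : Subgroup G}
    (hX : X ∈ 𝓗) {x : G} (hx : P X x) (hR : HasFour (K0 W X ⊓ centralizer ({x} : Set G))) :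
    HR W := by
  obtain ⟨Y, hY, hYX, -⟩ := Q.other X hX x hx hR
  intro v hv hvv
  by_cases h3 : ∃ Z ∈ 𝓗, Z ≠ X ∧ Z ≠ Y
  · obtain ⟨Z, hZ, h4, h5⟩ := h3
    exact F.exists_rank hv hvv (Or.inl ⟨X, hX, Y, hY, Z, hZ, hYX.symm, h4.symm, h5.symm⟩)
  push Not at h3
  by_cases hf : ∃ f ∈ KK W 𝓗, f * f = 1 ∧ f ≠ 1
  · exact F.exists_rank hv hvv (Or.inr ⟨⟨X, hX, Y, hY, hYX.symm⟩, hf⟩)
  · push Not at hf
    refine (F.false_of_two Q hX hY hYX.symm (fun Z hZ => ?_) hf hx hR).elim
    by_cases h : Z = X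
    · exact Or.inl h
    · exact Or.inr (h3 Z hZ h)

/-! ### (A) and (P) -/

theorem Fam.mem_of_conj (T : TwoBal G) (F : Fam W 𝓗) {X : Subgroup G} (hX : X ∈ 𝓗) (hr : HR W)
    {t : G} (hC : centralizer ({t} : Set G) ≤ normalizer (W : Set G)) (htt : t * t = 1) {g : G}
    (hg : g * t * g⁻¹ ∈ normalizer (W : Set G)) : g ∈ normalizer (W : Set G) := by
  have h1 : g * t * g⁻¹ * (g * t * g⁻¹) = 1 := by
    have : g * t * g⁻¹ * (g * t * g⁻¹) = g * (t * t) * g⁻¹ := by group
    rw [this, htt]
    group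
  obtain ⟨U, hU, hU2, h16, hc⟩ := hr _ hg h1
  have h2 : cj g⁻¹ U ≤ normalizer (W : Set G) := by
    intro c hcU
    apply hC
    rw [mem_cj, inv_inv] at hcU
    have h3 := hc _ hcU
    rw [mem_centralizer_singleton_iff]
    have h4 : c * t = g⁻¹ * (g * c * g⁻¹ * (g * t * g⁻¹)) * g := by group
    rw [h4, h3]
    group
  exact inv_mem_iff.mp (F.mem_of_rank T hX hU hU2 h16 h2)

/-- **`C(t t') ≤ M`** for commuting involutions `t`, `t'` in different members -/
theorem Fam.cent_mul (T : TwoBal G) (F : Fam W 𝓗) (hr : HR W) {X Y : Subgroup G} (hX : X ∈ 𝓗)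
    (hY : Y ∈ 𝓗) (hXY : X ≠ Y) {t t' : G} (ht : t ∈ X) (ht' : t' ∈ Y) (htt : t * t = 1)
    (htt' : t' * t' = 1) (ht1 : t ≠ 1) (ht1' : t' ≠ 1) (hc : t * t' = t' * t)
    (hC : centralizer ({t} : Set G) ≤ normalizer (W : Set G)) :
    centralizer ({t * t'} : Set G) ≤ normalizer (W : Set G) := by
  have hXN := (F.sys X hX).nW
  have hYN := (F.sys Y hY).nW
  have hinter : ∀ c : G, c ∈ X → c ∈ Y → c * c = 1 → c = 1 := fun c h1 h2 h3 =>
    F.eq_one_of_mem hX h1 h3 (F.le_K0 hX hY hXY.symm h2)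
  obtain ⟨p, hp⟩ : ∃ p, p = t * t' := ⟨_, rfl⟩
  rw [← hp]
  have hpt : p * t = t' := by rw [hp, hc, mul_assoc, htt, mul_one]
  have htp : t * p = t' := by rw [hp, ← mul_assoc, htt, one_mul]
  have hpp : p * p = 1 := by
    rw [hp]
    calc t * t' * (t * t') = t * (t' * t) * t' := by group
      _ = t * (t * t') * t' := by rw [hc]
      _ = (t * t) * (t' * t') := by group
      _ = 1 := by rw [htt, htt', one_mul]
  have hp1 : p ≠ 1 := by
    intro h
    rw [h, mul_one] at htp
    exact ht1 (hinter t ht (htp ▸ ht') htt)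
  have hpN : p ∈ normalizer (W : Set G) := by
    rw [hp]
    exact mul_mem (hXN ht) (hYN ht')
  have hA : ∀ g : G, g * t * g⁻¹ ∈ normalizer (W : Set G) → g ∈ normalizer (W : Set G) :=
    fun g hg => F.mem_of_conj T hX hr hC htt hg
  -- the support of `p`
  have hsupp : ∀ c ∈ normalizer (W : Set G), c * p * c⁻¹ = p →
      (X = cj c X ∨ X = cj c Y) ∧ (Y = cj c X ∨ Y = cj c Y) := by
    intro c hcN hcp
    have h1 : p = (c * t * c⁻¹) * (c * t' * c⁻¹) := by
      rw [← hcp, hp]
      group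
    have hcX := F.conj c hcN X hX
    have hcY := F.conj c hcN Y hY
    have h2 : ∀ Z ∈ 𝓗, Z ≠ cj c X → Z ≠ cj c Y → p ∈ K0 W Z := by
      intro Z hZ h3 h4
      rw [h1]
      exact mul_mem (F.le_K0 hZ hcX h3.symm (conj_mem_cj ht))
        (F.le_K0 hZ hcY h4.symm (conj_mem_cj ht'))
    constructor
    · by_contra h
      push Not at h
      have h3 := h2 X hX h.1 h.2
      refine ht1 (F.eq_one_of_mem hX ht htt ?_)
      have h4 : t = p * t' := by rw [hp, mul_assoc, htt', mul_one]
      rw [h4]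
      exact mul_mem h3 (F.le_K0 hX hY hXY.symm ht')
    · by_contra h
      push Not at h
      have h3 := h2 Y hY h.1 h.2
      refine ht1' (F.eq_one_of_mem hY ht' htt' ?_)
      rw [← hpt]
      exact mul_mem h3 (F.le_K0 hY hX hXY ht)
  have hcen : ∀ {c : G}, c ∈ centralizer ({p} : Set G) → c * p * c⁻¹ = p := by
    intro c h
    rw [comm_c h, mul_inv_cancel_right]
  have htC : t ∈ centralizer ({p} : Set G) :=
    mem_centralizer_singleton_iff.mpr (by rw [htp, hpt])
  have htpne : t ≠ p := by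
    intro h
    rw [h, hpp] at htp
    exact ht1' htp.symm
  obtain ⟨O, hO, hOodd, hOn, hOz⟩ := Cfsg.Agent.Cit.TwoB.zstar_mod
    (C := centralizer ({p} : Set G)) (z := p) (t := t) (mem_centralizer_singleton_iff.mpr rfl)
    (fun c h => comm_c h) hpp hp1 htC htt ht1 htpne (by
      intro g hg hgt
      obtain ⟨b, hb⟩ : ∃ b, b = g * t * g⁻¹ := ⟨_, rfl⟩
      obtain ⟨b', hb'⟩ : ∃ b', b' = g * t' * g⁻¹ := ⟨_, rfl⟩
      rw [← hb] at hgt ⊢
      have hbb : b * b = 1 := by
        rw [hb]
        have : g * t * g⁻¹ * (g * t * g⁻¹) = g * (t * t) * g⁻¹ := by group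
        rw [this, htt]
        group
      have hbb' : b' * b' = 1 := by
        rw [hb']
        have : g * t' * g⁻¹ * (g * t' * g⁻¹) = g * (t' * t') * g⁻¹ := by group
        rw [this, htt']
        group
      have hbp : p = b * b' := by
        rw [← hcen hg, hp, hb, hb']
        group
      have hbc : b * b' = b' * b := by
        rw [hb, hb']
        have h1 : g * t * g⁻¹ * (g * t' * g⁻¹) = g * (t * t') * g⁻¹ := by group
        have h2 : g * t' * g⁻¹ * (g * t * g⁻¹) = g * (t' * t) * g⁻¹ := by group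
        rw [h1, h2, hc]
      have hbN : b ∈ normalizer (W : Set G) := by
        rcases hgt with h | h
        · exact hC (mem_centralizer_singleton_iff.mpr h)
        · apply hA
          have h1 : b * t * b⁻¹ = t' := by
            rw [h]
            have h2 : p * (t * b) * b⁻¹ = p * t := by group
            rw [h2, hpt]
          rw [h1]
          exact hYN ht'
      have hgN : g ∈ normalizer (W : Set G) := by
        apply hA
        rw [← hb]
        exact hbN
      obtain ⟨hs1, hs2⟩ := hsupp g hgN (hcen hg)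
      have hbX : b ∈ cj g X := by
        rw [hb]
        exact conj_mem_cj ht
      have hbY : b' ∈ cj g Y := by
        rw [hb']
        exact conj_mem_cj ht'
      rcases hs1 with h1 | h1
      · -- `X ^ g = X`, `Y ^ g = Y`
        have h2 : Y = cj g Y := by
          rcases hs2 with h3 | h3
          · exact absurd (h1.trans h3.symm) hXY
          · exact h3
        rw [← h1] at hbX
        rw [← h2] at hbY
        rcases hgt with h | h
        · left
          have h3 : t * b = t' * b' := by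
            calc t * b = t * (b * (b' * b')) := by rw [hbb', mul_one]
              _ = t * (b * b') * b' := by group
              _ = t * (t * t') * b' := by rw [← hbp, hp]
              _ = (t * t) * t' * b' := by group
              _ = t' * b' := by rw [htt, one_mul]
          have h4 : t * b = 1 := by
            refine hinter _ (mul_mem ht hbX) (by rw [h3]; exact mul_mem ht' hbY) ?_
            calc t * b * (t * b) = t * (b * t) * b := by group
              _ = t * (t * b) * b := by rw [h]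
              _ = (t * t) * (b * b) := by group
              _ = 1 := by rw [htt, hbb, one_mul]
          have h5 : b = t⁻¹ := (eq_inv_of_mul_eq_one_right h4)
          rw [h5, inv_eq_of_mul_eq_one_left htt]
        · exfalso
          have h3 : p = b * t * (t * b)⁻¹ := by
            rw [h]
            group
          have h4 : p ∈ X := by
            rw [h3]
            exact mul_mem (mul_mem hbX ht) (inv_mem (mul_mem ht hbX))
          exact ht1' (hinter t' (htp ▸ mul_mem ht h4) ht' htt')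
      · -- `Y ^ g = X`, `X ^ g = Y`
        have h2 : Y = cj g X := by
          rcases hs2 with h3 | h3
          · exact h3
          · exact absurd (h1.trans h3.symm) hXY
        rw [← h2] at hbX
        rw [← h1] at hbY
        rcases hgt with h | h
        · right
          rw [hpt]
          have h3 : t * b' = t' * b := by
            calc t * b' = t * (b' * (b * b)) := by rw [hbb, mul_one]
              _ = t * (b' * b) * b := by group
              _ = t * (t * t') * b := by rw [← hbc, ← hbp, hp]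
              _ = (t * t) * t' * b := by group
              _ = t' * b := by rw [htt, one_mul]
          have h6 : b * p = p * b := by
            rw [hbp]
            calc b * (b * b') = b * (b' * b) := by rw [hbc]
              _ = b * b' * b := by group
          have h7 : t' * b = b * t' := by
            rw [← htp]
            calc t * p * b = t * (p * b) := by group
              _ = t * (b * p) := by rw [h6]
              _ = (t * b) * p := by group
              _ = (b * t) * p := by rw [h]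
              _ = b * (t * p) := by group
          have h4 : t' * b = 1 := by
            refine hinter _ (by rw [← h3]; exact mul_mem ht hbY) (mul_mem ht' hbX) ?_
            calc t' * b * (t' * b) = t' * (b * t') * b := by group
              _ = t' * (t' * b) * b := by rw [h7]
              _ = (t' * t') * (b * b) := by group
              _ = 1 := by rw [htt', hbb, one_mul]
          have h5 : b = t'⁻¹ := (eq_inv_of_mul_eq_one_right h4)
          rw [h5, inv_eq_of_mul_eq_one_left htt']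
        · exfalso
          have h3 : p = ⁅b, t⁆ := by
            rw [commutatorElement_def, h]
            group
          have h4 : p ∈ W := by
            rw [h3]
            exact F.comm Y hY X hX hXY.symm (commutator_mem_commutator hbX ht)
          exact hp1 (eq_one_of_sq_odd (F.odd_W hX) hpp h4))
  -- `O ≤ M`
  obtain ⟨U, hU, hU2, h16, hUc⟩ := hr p hpN hpp
  have hON : O ≤ normalizer (W : Set G) := by
    refine F.le_of_odd T hX hU hU2 h16 hOodd fun u hu => ?_
    have h1 : u ∈ centralizer ({p} : Set G) := mem_centralizer_singleton_iff.mpr (hUc u hu)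
    rw [mem_normalizer_iff]
    refine fun o => ⟨fun h => hOn u h1 o h, fun h => ?_⟩
    have h2 := hOn _ (inv_mem h1) _ h
    have h3 : u⁻¹ * (u * o * u⁻¹) * u⁻¹⁻¹ = o := by group
    rwa [h3] at h2
  intro c hcC
  apply hA
  have h1 : c * t * c⁻¹ * t ∈ normalizer (W : Set G) := by
    rcases hOz c hcC with h | h
    · exact hON h
    · exact (mul_mem_cancel_left hpN).mp (hON h)
  exact (mul_mem_cancel_right (hXN ht)).mp h1

/-! ### the end -/

theorem Fam.false_of [IsSimpleGroup G] (T : TwoBal G) (hcrit : Crit G) (F : Fam W 𝓗) (hW : W ≠ ⊥)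
    (one : ∀ Z ∈ 𝓗, ∀ s ∈ Z, ∀ t ∈ Z, s * s = 1 → t * t = 1 → s ≠ 1 → t ≠ 1 →
      ∃ h ∈ Z, h * s * h⁻¹ = t) {P : Subgroup G → G → Prop} (Q : PT W 𝓗 P)
    {X₀ : Subgroup G} (hX₀ : X₀ ∈ 𝓗)
    {x : G} (hx : P X₀ x) (hR : HasFour (K0 W X₀ ⊓ centralizer ({x} : Set G)))
    {X : Subgroup G} (hX : X ∈ 𝓗) {t : G} (ht : t ∈ X) (htt : t * t = 1) (ht1 : t ≠ 1)
    (hC : centralizer ({t} : Set G) ≤ normalizer (W : Set G)) : False := by
  have hr := F.rank Q hX₀ hx hR
  have hA : ∀ g : G, g * t * g⁻¹ ∈ normalizer (W : Set G) → g ∈ normalizer (W : Set G) :=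
    fun g hg => F.mem_of_conj T hX hr hC htt hg
  have hXN := (F.sys X hX).nW
  have htN := hXN ht
  have hto : orderOf t = 2 := orderOf_eq_prime (by rw [pow_two, htt]) ht1
  have hM : normalizer (W : Set G) ≠ ⊤ := by
    intro h
    have h1 : W.Normal := normalizer_eq_top_iff.mp h
    rcases h1.eq_bot_or_eq_top with h2 | h2
    · exact hW h2
    · refine ht1 (eq_one_of_sq_odd (F.odd_W hX) htt ?_)
      rw [h2]
      exact mem_top t
  -- (P)
  have hP : ∀ g : G, Commute t (g * t * g⁻¹) → g * t * g⁻¹ ≠ t →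
      centralizer ({t * (g * t * g⁻¹)} : Set G) ≤ normalizer (W : Set G) := by
    intro g hg hgt
    have h1 : g * t * g⁻¹ ∈ normalizer (W : Set G) :=
      hC (mem_centralizer_singleton_iff.mpr hg.eq.symm)
    have hgN := hA g h1
    obtain ⟨b, hb⟩ : ∃ b, b = g * t * g⁻¹ := ⟨_, rfl⟩
    have hbX : b ∈ cj g X := by
      rw [hb]
      exact conj_mem_cj ht
    have hbb : b * b = 1 := by
      rw [hb]
      have : g * t * g⁻¹ * (g * t * g⁻¹) = g * (t * t) * g⁻¹ := by group
      rw [this, htt]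
      group
    have hb1 : b ≠ 1 := by
      intro h
      rw [hb] at h
      apply ht1
      have h2 : t = g⁻¹ * (g * t * g⁻¹) * g := by group
      rw [h2, h]
      group
    rw [← hb] at hg hgt ⊢
    by_cases hXg : X = cj g X
    · rw [← hXg] at hbX
      have h2 : t * b * (t * b) = 1 := by
        calc t * b * (t * b) = t * (b * t) * b := by group
          _ = t * (t * b) * b := by rw [hg.eq]
          _ = (t * t) * (b * b) := by group
          _ = 1 := by rw [htt, hbb, one_mul]
      have h3 : t * b ≠ 1 := by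
        intro h
        apply hgt
        rw [eq_inv_of_mul_eq_one_right h, inv_eq_of_mul_eq_one_left htt]
      obtain ⟨h, hh, hht⟩ := one X hX t ht (t * b) (mul_mem ht hbX) htt h2 ht1 h3
      intro c hc
      have h4 : h⁻¹ * c * h ∈ centralizer ({t} : Set G) := by
        rw [mem_centralizer_singleton_iff]
        have h5 : c * (t * b) = (t * b) * c := comm_c hc
        rw [← hht] at h5
        calc h⁻¹ * c * h * t = h⁻¹ * (c * (h * t * h⁻¹)) * h := by group
          _ = h⁻¹ * (h * t * h⁻¹ * c) * h := by rw [h5]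
          _ = t * (h⁻¹ * c * h) := by group
      have h5 := mul_mem (mul_mem (hXN hh) (hC h4)) (inv_mem (hXN hh))
      have h6 : h * (h⁻¹ * c * h) * h⁻¹ = c := by group
      rwa [h6] at h5
    · exact F.cent_mul T hr hX (F.conj g hgN X hX) hXg ht hbX htt hbb ht1 hb1 hg.eq hC
  -- points
  have hfix : ∀ (p g : G), p • (QuotientGroup.mk g : G ⧸ normalizer (W : Set G)) =
      QuotientGroup.mk g ↔ g⁻¹ * p * g ∈ normalizer (W : Set G) := by
    intro p g
    have e : p • (QuotientGroup.mk g : G ⧸ normalizer (W : Set G)) = QuotientGroup.mk (p * g) := rfl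
    rw [e, eq_comm, QuotientGroup.eq, mul_assoc]
  have huniq : ∀ p : G, centralizer ({p} : Set G) ≤ normalizer (W : Set G) → p * p = 1 →
      ∀ a : G ⧸ normalizer (W : Set G), p • a = a → a = QuotientGroup.mk 1 := by
    intro p hCp hpp a ha
    obtain ⟨g, rfl⟩ := QuotientGroup.mk_surjective a
    rw [hfix] at ha
    have h1 := F.mem_of_conj T hX hr hCp hpp (g := g⁻¹) (by rw [inv_inv]; exact ha)
    rw [eq_comm, QuotientGroup.eq, inv_one, one_mul]
    exact inv_mem_iff.mp h1
  have hset : Cfsg.Agent.AschCrit.Pure.PSetup G (G ⧸ normalizer (W : Set G)) t :=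
    { invol := hto
      nontriv := by
        obtain ⟨g, hg⟩ : ∃ g : G, g ∉ normalizer (W : Set G) := by
          by_contra h
          push Not at h
          exact hM (eq_top_iff.mpr fun g _ => h g)
        refine ⟨QuotientGroup.mk 1, QuotientGroup.mk g, fun h => hg ?_⟩
        rw [QuotientGroup.eq, inv_one, one_mul] at h
        exact h
      trans := by
        intro a b
        obtain ⟨a', rfl⟩ := QuotientGroup.mk_surjective a
        obtain ⟨b', rfl⟩ := QuotientGroup.mk_surjective b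
        refine ⟨b' * a'⁻¹, ?_⟩
        change (QuotientGroup.mk (b' * a'⁻¹ * a') : G ⧸ normalizer (W : Set G)) = _
        rw [inv_mul_cancel_right]
      exists_fix := ⟨QuotientGroup.mk 1, by
        rw [hfix, inv_one, one_mul, mul_one]
        exact htN⟩
      fix_unique := by
        intro a b ha hb
        rw [huniq t hC htt a ha, huniq t hC htt b hb]
      pure := by
        intro g hg hgt a b ha hb
        have h1 := hP g hg hgt
        have h2 : t * (g * t * g⁻¹) * (t * (g * t * g⁻¹)) = 1 := by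
          have hbb : (g * t * g⁻¹) * (g * t * g⁻¹) = 1 := by
            have : g * t * g⁻¹ * (g * t * g⁻¹) = g * (t * t) * g⁻¹ := by group
            rw [this, htt]
            group
          have e1 : t * (g * t * g⁻¹) * (t * (g * t * g⁻¹)) =
            t * ((g * t * g⁻¹) * t) * (g * t * g⁻¹) := by group
          rw [e1, ← hg.eq]
          have e2 : t * (t * (g * t * g⁻¹)) * (g * t * g⁻¹) =
            (t * t) * ((g * t * g⁻¹) * (g * t * g⁻¹)) := by group
          rw [e2, htt, hbb, one_mul]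
        rw [huniq _ h1 h2 a ha, huniq _ h1 h2 b hb] }
  obtain ⟨H, hH⟩ := hcrit _ hM t hto htN hset.setup.central hA hP
  -- `t t'`
  obtain ⟨Y, hY, hYX₀, -⟩ := Q.other X₀ hX₀ x hx hR
  obtain ⟨Y, hY, hYX⟩ : ∃ Y ∈ 𝓗, Y ≠ X := by
    by_cases h : X = X₀
    · rw [h]
      exact ⟨Y, hY, hYX₀⟩
    · exact ⟨X₀, hX₀, Ne.symm h⟩
  obtain ⟨V, hV, hV2, hV4⟩ := F.four_of_K0 hY (F.le_K0 hY hX hYX.symm ht) htt
  obtain ⟨b, hbV, hb1, -⟩ := exists_ne (B := V) (by omega) 1
  have hbb := hV2 b hbV
  have hbY : b ∈ Y := (hV hbV).1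
  have hbt : b * t = t * b := comm_c (hV hbV).2
  have hinter : ∀ c : G, c ∈ X → c ∈ Y → c * c = 1 → c = 1 := fun c h1 h2 h3 =>
    F.eq_one_of_mem hX h1 h3 (F.le_K0 hX hY hYX h2)
  have hpp : t * b * (t * b) = 1 := by
    calc t * b * (t * b) = t * (b * t) * b := by group
      _ = t * (t * b) * b := by rw [hbt]
      _ = (t * t) * (b * b) := by group
      _ = 1 := by rw [htt, hbb, one_mul]
  have hp1 : t * b ≠ 1 := by
    intro h
    apply ht1
    refine hinter t ht ?_ htt
    rw [eq_inv_of_mul_eq_one_left h]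
    exact inv_mem hbY
  obtain ⟨g, hg⟩ := isConj_iff.mp (Cfsg.Agent.TwoFusion.StronglyEmbeddedBasic.isConj_of_involutions
    hH t (t * b) hto (orderOf_eq_prime (by rw [pow_two, hpp]) hp1))
  have hgN : g ∈ normalizer (W : Set G) := by
    apply hA
    rw [hg]
    exact mul_mem htN ((F.sys Y hY).nW hbY)
  have hZ := F.conj g hgN X hX
  have hpZ : t * b ∈ cj g X := by
    rw [← hg]
    exact conj_mem_cj ht
  have hb' : b = t * (t * b) := by rw [← mul_assoc, htt, one_mul]
  have ht' : t = (t * b) * b := by rw [mul_assoc, hbb, mul_one]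
  by_cases h1 : cj g X = X
  · rw [h1] at hpZ
    exact hb1 (hinter b (hb' ▸ mul_mem ht hpZ) hbY hbb)
  · by_cases h2 : cj g X = Y
    · rw [h2] at hpZ
      exact ht1 (hinter t ht (by rw [ht']; exact mul_mem hpZ hbY) htt)
    · refine ht1 (F.eq_one_of_mem hX ht htt ?_)
      rw [ht']
      exact mul_mem (F.le_K0 hX hZ h1 hpZ) (F.le_K0 hX hY hYX hbY)

end Cfsg.Agent.UGT.Res.WMany
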