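import Cfsg.Agent.UGT.Res.WMany.Fam
import Cfsg.Agent.UGT.Res.WSup
import Cfsg.Agent.UGT.A9.LTwoRank
import Cfsg.Agent.TwoFusion.StronglyEmbeddedBasic

/-!
# Elementary abelian subgroups of `M0` of order at least 16

`ka`: the field `Fam.ka` for `H / O(H) ≅ PSL(2,F)`: an elementary abelian group of order 8 of automorphisms contains a
four-group of inner automorphisms.  `one`: involutions of `H` are conjugate in `H`.
-/

set_option autoImplicit false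
set_option linter.unusedSectionVars false

open Cfsg Subgroup
open Cfsg.Agent.SignalizersComponents Cfsg.Agent.Lib
open Cfsg.Agent.SignalizersComponents.IntrinsicBasic
open Cfsg.Agent.Intrinsic.Basic Cfsg.Agent.Intrinsic.Cen Cfsg.Agent.Intrinsic.Diag
open Cfsg.Agent.McLLyComp.Act
open Cfsg.Agent.UGT.Triple Cfsg.Agent.UGT.PumpGen Cfsg.Agent.UGT.TriBase
open Cfsg.Agent.UGT.Res.Base Cfsg.Agent.UGT.Res.Abel Cfsg.Agent.UGT.Res.CoreFree
open Cfsg.Agent.UGT.Res.WFun Cfsg.Agent.UGT.Res.WPair Cfsg.Agent.UGT.Res.WStar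
open Cfsg.Agent.UGT.A9.LTwo

open scoped commutatorElement

namespace Cfsg.Agent.UGT.Res.WMany.KA

variable {G : Type*} [Group G] [Finite G] {W H : Subgroup G}

/-- lifting a 2-group of exponent two of `C_{H / O(H)}(U)` to `C_H(U)` -/
theorem exists_lift_cen {U : Subgroup G} (hU : U ≤ normalizer (H : Set G)) (hU2 : IsPGroup 2 ↥U)
    {V : Subgroup (↥H ⧸ oddCore ↥H)} (hV : ∀ v ∈ V, v * v = 1)
    (hUV : ∀ (u : G) (hu : u ∈ U), ∀ v ∈ V, act H ⟨u, hU hu⟩ v = v) :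
    ∃ A : Subgroup G, ∃ hA : A ≤ H, (∀ a ∈ A, a * a = 1) ∧ Nat.card ↥A = Nat.card ↥V ∧
      (∀ a ∈ A, ∀ u ∈ U, a * u = u * a) ∧ ∀ (a : G) (ha : a ∈ A),
        (QuotientGroup.mk ⟨a, hA ha⟩ : ↥H ⧸ oddCore ↥H) ∈ V := by
  have hp : Fact (Nat.Prime 2) := ⟨Nat.prime_two⟩
  obtain ⟨X, hX⟩ : ∃ X : Subgroup G, X =
      (V.comap (QuotientGroup.mk' (oddCore ↥H))).map H.subtype := ⟨_, rfl⟩
  have hXH : X ≤ H := by
    rw [hX]
    exact map_subtype_le _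
  have hmem : ∀ (z : G) (hz : z ∈ H), z ∈ X ↔ (QuotientGroup.mk ⟨z, hz⟩ : ↥H ⧸ oddCore ↥H) ∈ V := by
    intro z hz
    rw [hX]
    constructor
    · rintro ⟨⟨y, hy⟩, h1, rfl⟩
      exact h1
    · intro h1
      exact ⟨⟨z, hz⟩, h1, rfl⟩
  have hUX : U ≤ normalizer (X : Set G) := by
    have key : ∀ u ∈ U, ∀ z ∈ X, u * z * u⁻¹ ∈ X := by
      intro u hu z hz
      have hzH := hXH hz
      rw [hmem _ (conj_mem (hU hu) hzH), ← act_mk (hU hu) hzH, hUV u hu _ ((hmem z hzH).mp hz)]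
      exact (hmem z hzH).mp hz
    intro u hu
    rw [mem_normalizer_iff]
    refine fun z => ⟨key u hu z, fun h => ?_⟩
    have h2 := key _ (inv_mem hu) _ h
    have h3 : u⁻¹ * (u * z * u⁻¹) * u⁻¹⁻¹ = z := by group
    rwa [h3] at h2
  obtain ⟨R, hR, hUR⟩ := exists_isSyl (E := U ⊔ X) hU2 le_sup_left
  have hA := hR.inf (L := X) le_sup_right (sup_le hUX le_normalizer)
  obtain ⟨A, hAe⟩ : ∃ A, A = R ⊓ X := ⟨_, rfl⟩
  rw [← hAe] at hA
  have hAR : A ≤ R := hAe ▸ inf_le_left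
  have hAH := hA.le.trans hXH
  -- `A → V` is injective
  obtain ⟨f, hf⟩ : ∃ f : ↥A →* ↥V, ∀ (a : G) (ha : a ∈ A), ((f ⟨a, ha⟩ : ↥V) : ↥H ⧸ oddCore ↥H) =
      QuotientGroup.mk ⟨a, hAH ha⟩ :=
    ⟨((QuotientGroup.mk' (oddCore ↥H)).comp (Subgroup.inclusion hAH)).codRestrict V
      (fun a => (hmem a.1 (hAH a.2)).mp (hA.le a.2)), fun a ha => rfl⟩
  have hinj : Function.Injective f := by
    rw [injective_iff_map_eq_one]
    rintro ⟨a, ha⟩ h1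
    have h2 := hf a ha
    rw [h1] at h2
    have h3 := (mk_eq_one_iff (hAH ha)).mp h2.symm
    exact Subtype.ext (eq_one_of_two_odd hR.two (odd_card_core H) (hAR ha) h3)
  have hle : Nat.card ↥A ≤ Nat.card ↥V := Nat.card_le_card_of_injective f hinj
  have hVp : IsPGroup 2 ↥V := isPGroup_of_el (el_of_sq hV)
  obtain ⟨k, hk⟩ := hVp.exists_card_eq
  have hdvd : 2 ^ k ∣ Nat.card ↥X := by
    rw [hX, card_map_of_injective H.subtype_injective]
    rw [← hk]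
    exact Subgroup.card_dvd_of_surjective _
      (MonoidHom.subgroupComap_surjective_of_surjective (QuotientGroup.mk' (oddCore ↥H)) V
        (QuotientGroup.mk'_surjective _))
  have h8 := hA.dvd_card hdvd
  refine ⟨A, hAH, ?_, le_antisymm hle ?_, ?_, fun a ha => (hmem a (hAH ha)).mp (hA.le ha)⟩
  · intro a ha
    have h1 : f (⟨a, ha⟩ * ⟨a, ha⟩) = 1 := by
      rw [map_mul]
      exact Subtype.ext (hV _ (f ⟨a, ha⟩).2)
    have h2 := (injective_iff_map_eq_one f).mp hinj _ h1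
    exact congrArg Subtype.val h2
  · rw [hk]
    exact Nat.le_of_dvd Nat.card_pos h8
  · intro a ha u hu
    have h1 := hUV u hu _ ((hmem a (hAH ha)).mp (hA.le ha))
    rw [act_mk (hU hu) (hAH ha), eq_comm, mk_eq_iff] at h1
    -- `a⁻¹ u a u⁻¹ ∈ O(H) ∩ R`
    have h2 : a⁻¹ * (u * a * u⁻¹) ∈ R :=
      mul_mem (inv_mem (hAR ha)) (mul_mem (mul_mem (hUR hu) (hAR ha)) (inv_mem (hUR hu)))
    have h3 := eq_one_of_two_odd hR.two (odd_card_core H) h2 h1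
    have h4 : u * a * u⁻¹ = a := (inv_mul_eq_one.mp h3).symm
    calc a * u = u * a * u⁻¹ * u := by rw [h4]
      _ = u * a := by group

variable {F : Type*} [Field F] [Finite F] (R : Cfsg.Agent.GH.L2Aut.Rep F (↥H ⧸ oddCore ↥H))

include R in
/-- **the field `Fam.ka`** -/
theorem ka (hHM : H ≤ M0 W H) {U : Subgroup G} (hU : U ≤ M0 W H) (hU2 : ∀ u ∈ U, u * u = 1) (h16 : 16 ≤ Nat.card ↥U)
    (h4 : Nat.card ↥(U ⊓ K0 W H : Subgroup G) < 4) : U ⊓ K0 W H ≠ ⊥ ∧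
      ∃ B : Subgroup G, B ≤ H ∧ (∀ b ∈ B, ∀ u ∈ U, b * u = u * b) ∧ (∀ b ∈ B, b * b = 1) ∧
        Nat.card ↥B = 4 ∧ ∀ b ∈ B, ∃ u ∈ U, u * b ∈ K0 W H := by
  have hp : Fact (Nat.Prime 2) := ⟨Nat.prime_two⟩
  have hUN : U ≤ normalizer (H : Set G) := fun u hu => (hU hu).2
  obtain ⟨f, hf⟩ : ∃ f : ↥U →* MulAut (↥H ⧸ oddCore ↥H), f =
      (act H).comp (Subgroup.inclusion hUN) := ⟨_, rfl⟩
  have hfm : ∀ (u : G) (hu : u ∈ U), f ⟨u, hu⟩ = act H ⟨u, hUN hu⟩ := fun u hu => by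
    rw [hf]; rfl
  have hsq : ∀ v ∈ f.range, v * v = 1 := by
    rintro _ ⟨⟨u, hu⟩, rfl⟩
    rw [← map_mul]
    have : (⟨u, hu⟩ : ↥U) * ⟨u, hu⟩ = 1 := Subtype.ext (hU2 u hu)
    rw [this, map_one]
  -- orders
  have hker : Nat.card ↥f.ker = Nat.card ↥(U ⊓ K0 W H : Subgroup G) := by
    have h1 : f.ker.map U.subtype = U ⊓ K0 W H := by
      ext z
      constructor
      · rintro ⟨⟨u, hu⟩, h2, rfl⟩
        refine mem_inf.mpr ⟨hu, ?_⟩
        change u ∈ K0 W H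
        rw [WSup.mem_K0_iff (hU hu), ← hfm u hu]
        exact h2
      · intro h2
        refine ⟨⟨z, h2.1⟩, ?_, rfl⟩
        change f ⟨z, h2.1⟩ = 1
        rw [hfm z h2.1]
        exact (WSup.mem_K0_iff (hU h2.1)).mp h2.2
    rw [← h1, card_map_of_injective U.subtype_injective]
  have hcard : Nat.card ↥f.range * Nat.card ↥f.ker = Nat.card ↥U := by
    rw [← Subgroup.index_ker, mul_comm]
    exact f.ker.card_mul_index
  rw [hker] at hcard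
  have h8 := card_le_eight R hsq
  have h2 := card_le_two_mul R hsq
  have h3 := card_inn_le R (A := f.range ⊓ Cfsg.Agent.GH.L2Aut.Inn (↥H ⧸ oddCore ↥H)) inf_le_right
    (fun a ha => hsq a ha.1)
  have hpos : 0 < Nat.card ↥(U ⊓ K0 W H : Subgroup G) := Nat.card_pos
  obtain ⟨c, hc⟩ : ∃ c, c = Nat.card ↥(U ⊓ K0 W H : Subgroup G) := ⟨_, rfl⟩
  obtain ⟨r, hr⟩ : ∃ r, r = Nat.card ↥f.range := ⟨_, rfl⟩
  rw [← hc, ← hr] at hcard
  rw [← hc] at h4 hpos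
  rw [← hr] at h8 h2
  constructor
  · intro h
    rw [h, card_bot] at hc
    rw [hc] at hcard
    omega
  have hr6 : 6 ≤ r := by
    by_contra hlt
    have h5 : r * c ≤ 5 * 3 := Nat.mul_le_mul (by omega) (by omega)
    omega
  -- the inner part
  obtain ⟨V, hV⟩ : ∃ V : Subgroup (↥H ⧸ oddCore ↥H), V = f.range.comap MulAut.conj := ⟨_, rfl⟩
  have hVmem : ∀ v, v ∈ V ↔ MulAut.conj v ∈ f.range := fun v => by rw [hV]; rfl
  have hinn : V.map MulAut.conj = f.range ⊓ Cfsg.Agent.GH.L2Aut.Inn (↥H ⧸ oddCore ↥H) := by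
    ext z
    constructor
    · rintro ⟨v, hv, rfl⟩
      exact ⟨(hVmem v).mp hv, v, rfl⟩
    · rintro ⟨h5, v, rfl⟩
      exact ⟨v, (hVmem v).mpr h5, rfl⟩
  have hVc : Nat.card ↥V = Nat.card ↥(f.range ⊓ Cfsg.Agent.GH.L2Aut.Inn (↥H ⧸ oddCore ↥H) : Subgroup _) := by
    rw [← hinn, card_map_of_injective R.conj_injective]
  rw [← hVc] at h2 h3
  have hV2 : ∀ v ∈ V, v * v = 1 := by
    intro v hv
    apply R.conj_injective
    rw [map_mul, map_one]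
    exact hsq _ ((hVmem v).mp hv)
  have hV4 : Nat.card ↥V = 4 := by
    obtain ⟨k, hk⟩ := (isPGroup_of_el (el_of_sq hV2)).exists_card_eq
    rw [hk] at h2 h3 ⊢
    have hk2 : k ≤ 2 := by
      by_contra hlt
      have h5 : 2 ^ 3 ≤ 2 ^ k := Nat.pow_le_pow_right (by norm_num) (by omega)
      omega
    interval_cases k <;> omega
  have hUV : ∀ (u : G) (hu : u ∈ U), ∀ v ∈ V, act H ⟨u, hUN hu⟩ v = v := by
    intro u hu v hv
    have h5 : act H ⟨u, hUN hu⟩ ∈ f.range := ⟨⟨u, hu⟩, hfm u hu⟩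
    have h6 := comm_of_sq' hsq h5 ((hVmem v).mp hv)
    exact R.conj_injective (Cfsg.Agent.GH.L2Aut.Rep.conj_comm_iff.mp h6.symm)
  obtain ⟨B, hBH, hB2, hB4, hBU, hBV⟩ := exists_lift_cen hUN (isPGroup_of_el (el_of_sq hU2)) hV2 hUV
  refine ⟨B, hBH, hBU, hB2, hB4.trans hV4, fun b hb => ?_⟩
  obtain ⟨⟨u, hu⟩, h5⟩ := (hVmem _).mp (hBV b hb)
  rw [hfm u hu, ← act_of_mem (hBH hb)] at h5
  refine ⟨u, hu, ?_⟩
  have hbN : b ∈ M0 W H := hHM (hBH hb)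
  rw [WSup.mem_K0_iff (mul_mem (hU hu) hbN), act_mul (hU hu).2 hbN.2, h5, ← act_mul hbN.2 hbN.2,
    act_congr (mul_mem hbN.2 hbN.2) (hB2 b hb)]
  exact map_one _

include R in
/-- involutions of `H` are conjugate in `H` -/
theorem one {s t : G} (hs : s ∈ H) (ht : t ∈ H) (hss : s * s = 1) (htt : t * t = 1) (hs1 : s ≠ 1)
    (ht1 : t ≠ 1) : ∃ h ∈ H, h * s * h⁻¹ = t := by
  have hne : ∀ {s : G} (hs : s ∈ H), s * s = 1 → s ≠ 1 →
      (QuotientGroup.mk ⟨s, hs⟩ : ↥H ⧸ oddCore ↥H) ≠ 1 := fun hs hss hs1 h =>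
    hs1 (eq_one_of_mem_core_sq ((mk_eq_one_iff hs).mp h) hss)
  have hsq : ∀ {s : G} (hs : s ∈ H), s * s = 1 → (QuotientGroup.mk ⟨s, hs⟩ : ↥H ⧸ oddCore ↥H) *
      QuotientGroup.mk ⟨s, hs⟩ = 1 := by
    intro s hs hss
    rw [← QuotientGroup.mk_mul]
    have : (⟨s, hs⟩ : ↥H) * ⟨s, hs⟩ = 1 := Subtype.ext hss
    rw [this]
    rfl
  obtain ⟨g, hg⟩ := R.inv_conj (hsq hs hss) (hne hs hss hs1) (hsq ht htt) (hne ht htt ht1)
  obtain ⟨⟨m, hm⟩, rfl⟩ := QuotientGroup.mk_surjective g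
  have hmsH : m * s * m⁻¹ ∈ H := mul_mem (mul_mem hm hs) (inv_mem hm)
  have h1 : (QuotientGroup.mk ⟨m * s * m⁻¹, hmsH⟩ : ↥H ⧸ oddCore ↥H) = QuotientGroup.mk ⟨t, ht⟩ := by
    rw [← hg]
    rfl
  rw [mk_eq_iff] at h1
  have hms : m * s * m⁻¹ * (m * s * m⁻¹) = 1 := by
    have : m * s * m⁻¹ * (m * s * m⁻¹) = m * (s * s) * m⁻¹ := by group
    rw [this, hss]
    group
  have hms1 : m * s * m⁻¹ ≠ 1 := by
    intro h
    apply hs1
    have : s = m⁻¹ * (m * s * m⁻¹) * m := by group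
    rw [this, h]
    group
  rw [inv_eq_of_mul_eq_one_left hms] at h1
  have hodd : Odd (orderOf (m * s * m⁻¹ * t)) := by
    refine Odd.of_dvd_nat (odd_card_core H) ?_
    rw [← Subgroup.orderOf_mk _ h1]
    exact orderOf_dvd_natCard _
  obtain ⟨j, hj, -, hjt, -⟩ := Cfsg.Agent.TwoFusion.StronglyEmbeddedBasic.exists_swap _ _
    (orderOf_eq_prime (by rw [pow_two, hms]) hms1) (orderOf_eq_prime (by rw [pow_two, htt]) ht1) hodd
  have hjH : j ∈ H := by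
    refine (closure_le H).mpr ?_ hj
    rintro y (rfl | rfl)
    · exact hmsH
    · exact ht
  refine ⟨j * m, mul_mem hjH hm, ?_⟩
  rw [← hjt]
  group

end Cfsg.Agent.UGT.Res.WMany.KA
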