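import Cfsg.Agent.UGT.Res.WMany.End
import Cfsg.Agent.UGT.Res.WMany.KA

/-!
# STEP 2 of R4: several conjugates of `H`

`G` simple, `(W, H)` a point (`WStar.Pt`) with an `f`-fine involution `z₀`, `W ≠ 1`, different conjugates of `H` under
`N(W)` commute modulo `W`, `x ∈ M0 W H` of PGL type on `H / O(H)`, `K0 W H ∩ C(x)` contains a four-group and
`C(u) ≤ N(W)` for all involutions `u` of `K0 W H ∩ C(x)`: a contradiction.
-/

set_option autoImplicit false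
set_option linter.unusedSectionVars false

open Cfsg Subgroup
open Cfsg.Agent.SignalizersComponents Cfsg.Agent.Lib
open Cfsg.Agent.SignalizersComponents.IntrinsicBasic
open Cfsg.Agent.Intrinsic.Basic Cfsg.Agent.Intrinsic.Cen Cfsg.Agent.Intrinsic.Diag
open Cfsg.Agent.McLLyComp.Act
open Cfsg.Agent.UGT.Triple Cfsg.Agent.UGT.PumpGen Cfsg.Agent.UGT.TriBase
open Cfsg.Agent.UGT.Res.Base Cfsg.Agent.UGT.Res.Abel Cfsg.Agent.UGT.Res.CoreFree
open Cfsg.Agent.UGT.Res.WFun Cfsg.Agent.UGT.Res.WPair Cfsg.Agent.UGT.Res.WStar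
open scoped commutatorElement

namespace Cfsg.Agent.UGT.Res.WMany

variable {G : Type*} [Group G] [Finite G] {W H : Subgroup G}

/-- the conjugates of `H` under `N(W)` -/
def orb (W H : Subgroup G) : Set (Subgroup G) := {X | ∃ m ∈ normalizer (W : Set G), X = cj m H}

omit [Finite G] in
theorem cjW {m : G} (hm : m ∈ normalizer (W : Set G)) : cj m W = W := mem_normalizer_iff_cj.mp hm

omit [Finite G] in
theorem mem_orb_self : H ∈ orb W H := ⟨1, one_mem _, (cj_one H).symm⟩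

omit [Finite G] in
theorem cj_M0' {m : G} (hm : m ∈ normalizer (W : Set G)) : cj m (M0 W H) = M0 W (cj m H) := by
  rw [cj_M0, cjW hm]

omit [Finite G] in
theorem cj_K0' {m : G} (hm : m ∈ normalizer (W : Set G)) : cj m (K0 W H) = K0 W (cj m H) := by
  rw [cj_K0, cjW hm]

omit [Finite G] in
theorem mem_M0_cj {m u : G} (hm : m ∈ normalizer (W : Set G)) :
    m⁻¹ * u * m ∈ M0 W H ↔ u ∈ M0 W (cj m H) := by
  rw [← cj_M0' hm, mem_cj]

omit [Finite G] in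
theorem mem_K0_cj {m u : G} (hm : m ∈ normalizer (W : Set G)) :
    m⁻¹ * u * m ∈ K0 W H ↔ u ∈ K0 W (cj m H) := by
  rw [← cj_K0' hm, mem_cj]

/-- the family of the conjugates -/
theorem fam_orb (T : TwoBal G) (S : Pt W H) {z₀ : G} (hz₀ : z₀ ∈ K0 W H) (hzz₀ : z₀ * z₀ = 1)
    (hz₁ : z₀ ≠ 1) (hff : FF W H z₀)
    (ka : ∀ U : Subgroup G, U ≤ M0 W H → (∀ u ∈ U, u * u = 1) → 16 ≤ Nat.card ↥U →
      Nat.card ↥(U ⊓ K0 W H : Subgroup G) < 4 → U ⊓ K0 W H ≠ ⊥ ∧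
        ∃ B : Subgroup G, B ≤ H ∧ (∀ b ∈ B, ∀ u ∈ U, b * u = u * b) ∧ (∀ b ∈ B, b * b = 1) ∧
          Nat.card ↥B = 4 ∧ ∀ b ∈ B, ∃ u ∈ U, u * b ∈ K0 W H)
    (comm : ∀ m ∈ normalizer (W : Set G), cj m H = H ∨ ⁅H, cj m H⁆ ≤ W) : Fam W (orb W H) where
  sys := by
    rintro _ ⟨m, hm, rfl⟩
    have h1 := S.toSys.conj m
    rwa [cjW hm] at h1
  conj := by
    rintro g hg _ ⟨m, hm, rfl⟩
    exact ⟨g * m, mul_mem hg hm, (cj_mul g m H).symm⟩
  comm := by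
    rintro _ ⟨a, ha, rfl⟩ _ ⟨b, hb, rfl⟩ hne
    rcases comm (a⁻¹ * b) (mul_mem (inv_mem ha) hb) with h | h
    · exfalso
      apply hne
      have h1 := congrArg (cj a) h
      rw [← cj_mul, mul_inv_cancel_left] at h1
      exact h1.symm
    · have h1 := cj_mono (g := a) h
      rwa [cj_commutator, ← cj_mul, mul_inv_cancel_left, cjW ha] at h1
  ff := by
    rintro _ ⟨m, hm, rfl⟩ z hz hzz hz1 A hA hA2 hA4
    have h1 : m⁻¹ * z * m ∈ K0 W H := (mem_K0_cj hm).mpr hz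
    have h2 : m⁻¹ * z * m * (m⁻¹ * z * m) = 1 := by
      have : m⁻¹ * z * m * (m⁻¹ * z * m) = m⁻¹ * (z * z) * m := by group
      rw [this, hzz]
      group
    have h3 : m⁻¹ * z * m ≠ 1 := by
      intro h
      apply hz1
      have : z = m * (m⁻¹ * z * m) * m⁻¹ := by group
      rw [this, h]
      group
    have h4 := (ff_all T S hz₀ hzz₀ hz₁ hff h1 h2 h3).conj m
    have h5 : m * (m⁻¹ * z * m) * m⁻¹ = z := by group
    rw [h5, cjW hm] at h4
    exact h4 A hA hA2 hA4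
  ka := by
    rintro _ ⟨m, hm, rfl⟩ U hU hU2 h16 h4
    have hmi := inv_mem hm
    have e1 : IntrinsicBasic.cj m⁻¹ U ⊓ K0 W H = IntrinsicBasic.cj m⁻¹ (U ⊓ K0 W (cj m H)) := by
      rw [cj_inf, cj_K0' hmi, cj_inv_cj]
    obtain ⟨h1, B, hB, hBU, hB2, hB4, hBK⟩ := ka (IntrinsicBasic.cj m⁻¹ U)
      (by
        rw [← cj_le_iff, cj_M0' hm]
        exact hU)
      (fun u hu => sq_of_el (el_cj (el_of_sq hU2) _) hu)
      (by rw [show Nat.card ↥(IntrinsicBasic.cj m⁻¹ U) = _ from card_cj _ U]; exact h16)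
      (by
        rw [e1, show Nat.card ↥(IntrinsicBasic.cj m⁻¹ (U ⊓ K0 W (cj m H))) = _ from card_cj _ _]
        exact h4)
    refine ⟨fun h => h1 ?_, cj m B, cj_mono hB, ?_, ?_, (card_cj m B).trans hB4, ?_⟩
    · rw [e1, h]
      exact Subgroup.map_bot _
    · intro b hb u hu
      rw [mem_cj] at hb
      have h5 := hBU _ hb (m⁻¹ * u * m⁻¹⁻¹) (conj_mem_cj hu)
      rw [inv_inv] at h5
      have h6 : b * u = m * (m⁻¹ * b * m * (m⁻¹ * u * m)) * m⁻¹ := by group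
      rw [h6, h5]
      group
    · exact fun b hb => sq_of_el (el_cj (el_of_sq hB2) _) hb
    · intro b hb
      rw [mem_cj] at hb
      obtain ⟨u, hu, hub⟩ := hBK _ hb
      rw [mem_cj, inv_inv] at hu
      refine ⟨_, hu, ?_⟩
      rw [← mem_K0_cj hm]
      have h6 : m⁻¹ * (m * u * m⁻¹ * b) * m = u * (m⁻¹ * b * m) := by group
      rw [h6]
      exact hub

/-- `lam` is trivial on `H` -/
theorem lam_H (S : Sys W H) (lam : ↥(M0 W H) →* ℤˣ)
    (lamK : ∀ (k : G) (hk : k ∈ M0 W H), k ∈ K0 W H → lam ⟨k, hk⟩ = 1) {h : G} (hh : h ∈ H) :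
    lam ⟨h, S.le_M0 hh⟩ = 1 := by
  have h1 : H ≤ lam.ker.map (M0 W H).subtype := by
    calc H = ⁅H, H⁆ ⊔ core H := S.perf.symm
      _ ≤ _ := by
        refine sup_le ?_ ?_
        · rw [commutator_le]
          intro a ha b hb
          refine ⟨⁅(⟨a, S.le_M0 ha⟩ : ↥(M0 W H)), (⟨b, S.le_M0 hb⟩ : ↥(M0 W H))⁆, ?_, rfl⟩
          change lam _ = 1
          rw [map_commutatorElement, commutatorElement_eq_one_iff_mul_comm, mul_comm]
        · intro c hc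
          exact ⟨⟨c, S.le_M0 (core_le H hc)⟩, lamK c _ (S.core_le_K0 hc), rfl⟩
  obtain ⟨⟨y, hy⟩, h2, h3⟩ := h1 hh
  change y = h at h3
  subst h3
  exact h2

/-- the elements of PGL type -/
def PP (lam : ↥(M0 W H) →* ℤˣ) (Z : Subgroup G) (u : G) : Prop :=
  u * u = 1 ∧ ∃ m ∈ normalizer (W : Set G), Z = cj m H ∧ ∃ h : m⁻¹ * u * m ∈ M0 W H,
    lam ⟨m⁻¹ * u * m, h⟩ = -1

/-- **STEP 2 of R4.** -/
theorem false_of [IsSimpleGroup G] (T : TwoBal G) (hcrit : Crit G) (hG : ∀ f : G →* ℤˣ, f = 1)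
    (S : Pt W H) (hW : W ≠ ⊥) {z₀ : G} (hz₀ : z₀ ∈ K0 W H) (hzz₀ : z₀ * z₀ = 1) (hz₁ : z₀ ≠ 1)
    (hff : FF W H z₀) (lam : ↥(M0 W H) →* ℤˣ)
    (lamK : ∀ (k : G) (hk : k ∈ M0 W H), k ∈ K0 W H → lam ⟨k, hk⟩ = 1)
    (pgl : ∀ (U : Subgroup G), U ≤ M0 W H → IsElementaryAbelian 2 U → ∀ (x : G) (hx : x ∈ M0 W H),
      x ∈ U → lam ⟨x, hx⟩ = -1 → Nat.card ↥U ≤ 4 * Nat.card ↥(U ⊓ K0 W H : Subgroup G))
    (ka : ∀ U : Subgroup G, U ≤ M0 W H → (∀ u ∈ U, u * u = 1) → 16 ≤ Nat.card ↥U →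
      Nat.card ↥(U ⊓ K0 W H : Subgroup G) < 4 → U ⊓ K0 W H ≠ ⊥ ∧
        ∃ B : Subgroup G, B ≤ H ∧ (∀ b ∈ B, ∀ u ∈ U, b * u = u * b) ∧ (∀ b ∈ B, b * b = 1) ∧
          Nat.card ↥B = 4 ∧ ∀ b ∈ B, ∃ u ∈ U, u * b ∈ K0 W H)
    (one : ∀ s ∈ H, ∀ t ∈ H, s * s = 1 → t * t = 1 → s ≠ 1 → t ≠ 1 → ∃ h ∈ H, h * s * h⁻¹ = t)
    (comm : ∀ m ∈ normalizer (W : Set G), cj m H = H ∨ ⁅H, cj m H⁆ ≤ W)
    {x : G} (hx : x ∈ M0 W H) (hxx : x * x = 1) (hlx : lam ⟨x, hx⟩ = -1)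
    (four : HasFour (K0 W H ⊓ centralizer ({x} : Set G)))
    (fin : ∀ u ∈ K0 W H, u * u = 1 → u ≠ 1 → u * x = x * u →
      centralizer ({u} : Set G) ≤ normalizer (W : Set G)) : False := by
  have F := fam_orb T S hz₀ hzz₀ hz₁ hff ka comm
  have hsqc : ∀ (m u : G), u * u = 1 → m⁻¹ * u * m * (m⁻¹ * u * m) = 1 := by
    intro m u h
    have : m⁻¹ * u * m * (m⁻¹ * u * m) = m⁻¹ * (u * u) * m := by group
    rw [this, h]
    group
  have hneg : (-1 : ℤˣ) ≠ 1 := by decide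
  have hlc : ∀ {a b : G} (ha : a ∈ M0 W H) (hab : a = b), lam ⟨a, ha⟩ = lam ⟨b, hab ▸ ha⟩ := by
    intro a b ha hab
    subst hab
    rfl
  have Q : PT W (orb W H) (PP lam) := by
    refine ⟨?_, ?_, ?_, ?_, ?_, ?_⟩
    · rintro _ - u ⟨-, m, hm, rfl, h, -⟩
      exact (mem_M0_cj hm).mp h
    · rintro _ - u ⟨h, -⟩
      exact h
    · rintro _ - u ⟨-, m, hm, rfl, h, hl⟩ hu
      rw [lamK _ h ((mem_K0_cj hm).mpr hu)] at hl
      exact hneg hl.symm
    · rintro _ - x r ⟨-, m, hm, rfl, h, hl⟩ hr hrr hrx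
      have h1 : m⁻¹ * r * m ∈ M0 W H := (mem_M0_cj hm).mpr hr
      refine ⟨hrr, m, hm, rfl, h1, ?_⟩
      have h2 : m⁻¹ * (r * x) * m ∈ K0 W H := (mem_K0_cj hm).mpr hrx
      have h3 : m⁻¹ * (r * x) * m = m⁻¹ * r * m * (m⁻¹ * x * m) := by group
      have h4 := lamK _ (K0_le h2) h2
      rw [hlc (K0_le h2) h3] at h4
      have h5 : lam ⟨m⁻¹ * r * m * (m⁻¹ * x * m), mul_mem h1 h⟩ =
        lam ⟨m⁻¹ * r * m, h1⟩ * lam ⟨m⁻¹ * x * m, h⟩ :=
          map_mul lam (⟨_, h1⟩ : ↥(M0 W H)) (⟨_, h⟩ : ↥(M0 W H))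
      rw [h5, hl] at h4
      rcases Int.units_eq_one_or (lam ⟨m⁻¹ * r * m, h1⟩) with h6 | h6
      · rw [h6, one_mul] at h4
        exact absurd h4 hneg
      · exact h6
    · rintro _ - u ⟨-, m, hm, rfl, h, hl⟩ U hU hU2 huU
      have hmi := inv_mem hm
      have e1 : IntrinsicBasic.cj m⁻¹ U ⊓ K0 W H = IntrinsicBasic.cj m⁻¹ (U ⊓ K0 W (cj m H)) := by
        rw [cj_inf, cj_K0' hmi, cj_inv_cj]
      have h1 := pgl (IntrinsicBasic.cj m⁻¹ U) (by
          rw [← cj_le_iff, cj_M0' hm]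
          exact hU) (el_cj (el_of_sq hU2) _) (m⁻¹ * u * m) h (by
          rw [mem_cj, inv_inv]
          have : m * (m⁻¹ * u * m) * m⁻¹ = u := by group
          rw [this]
          exact huU) hl
      rwa [e1, show Nat.card ↥(IntrinsicBasic.cj m⁻¹ U) = _ from card_cj _ U,
        show Nat.card ↥(IntrinsicBasic.cj m⁻¹ (U ⊓ K0 W (cj m H))) = _ from card_cj _ _] at h1
    · rintro _ - f ⟨hf2, m, hm, rfl, hf, hl⟩ hf4
      by_contra hno
      push Not at hno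
      have hmi := inv_mem hm
      obtain ⟨f', hf'⟩ : ∃ f', f' = m⁻¹ * f * m := ⟨_, rfl⟩
      have hf'M : f' ∈ M0 W H := hf' ▸ hf
      have hl' : lam ⟨f', hf'M⟩ = -1 := by
        rw [← hl]
        exact hlc hf'M hf'
      have hff' : f' * f' = 1 := by
        rw [hf']
        exact hsqc m f hf2
      -- the four-group
      obtain ⟨V, hV, hV2, hV4⟩ := hf4.cj m⁻¹
      have hVK : V ≤ K0 W H := by
        refine hV.trans ?_
        rw [cj_inf, cj_K0' hmi, cj_inv_cj]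
        exact inf_le_left
      have hVf : ∀ v ∈ V, v * f' = f' * v := by
        intro v hv
        have h1 := hV hv
        rw [cj_inf, cj_centralizer] at h1
        have h2 := comm_c h1.2
        rw [inv_inv] at h2
        rw [hf']
        exact h2
      have hVM : V ≤ M0 W H := hVK.trans K0_le
      have hfK : f' ∉ K0 W H := by
        intro h
        rw [lamK f' hf'M h] at hl'
        exact hneg hl'.symm
      have hfV : f' ∉ V := fun h => hfK (hVK h)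
      obtain ⟨U₀, hU₀⟩ : ∃ U₀, U₀ = V ⊔ zpowers f' := ⟨_, rfl⟩
      have hU₀2 : ∀ u ∈ U₀, u * u = 1 := by
        rw [hU₀]
        exact sq_sup_zpowers hV2 hff' hVf
      have hU₀M : U₀ ≤ M0 W H := by
        rw [hU₀]
        exact sup_le hVM (zpowers_le.mpr hf'M)
      have c8 : 8 ≤ Nat.card ↥U₀ := by
        have := card_sup_zpowers hfV
        rw [hU₀]
        omega
      obtain ⟨R, hR, hUR, hRn, hP⟩ := exists_R (W := W) (X := H) hU₀M
        (isPGroup_of_el (el_of_sq hU₀2))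
      obtain ⟨s, hs, hso, hsc⟩ := exists_central hR inf_le_left hRn
        (ne_bot_of_hasFour (hasFour_of_isSyl hP S.four))
      have hss := sq_of_order hso
      have hs1 := ne_one_of_order hso
      have hsH : s ∈ H := hs.2
      have hsM := S.toSys.le_M0 hsH
      have hsU : s ∉ U₀ := by
        intro h
        rw [hU₀] at h
        have hcz : ∀ e ∈ V, ∀ g ∈ zpowers f', e * g = g * e := by
          intro e he g hg
          rcases (mem_zpowers_of_sq hff').mp hg with rfl | rfl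
          · rw [mul_one, one_mul]
          · exact hVf e he
        obtain ⟨v, hv, w, hw, hvw⟩ := (mem_sup_of_comm hcz).mp h
        have hsl := lam_H S.toSys lam lamK hsH
        rcases (mem_zpowers_of_sq hff').mp hw with h1 | h1
        · rw [h1, mul_one] at hvw
          exact hs1 (F.eq_one_of_mem mem_orb_self hsH hss (hvw ▸ hVK hv))
        · rw [h1] at hvw
          have h2 : lam ⟨s, hsM⟩ = lam ⟨v * f', mul_mem (hVM hv) hf'M⟩ := hlc hsM hvw.symm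
          have h3 : lam ⟨v * f', mul_mem (hVM hv) hf'M⟩ = lam ⟨v, hVM hv⟩ * lam ⟨f', hf'M⟩ :=
            map_mul lam (⟨_, hVM hv⟩ : ↥(M0 W H)) (⟨_, hf'M⟩ : ↥(M0 W H))
          rw [hsl, h3, lamK v _ (hVK hv), hl', one_mul] at h2
          exact hneg h2.symm
      have hsU₀ : ∀ u ∈ U₀, u * s = s * u := fun u hu => hsc u (hUR hu)
      have hU2 := sq_sup_zpowers hU₀2 hss hsU₀
      have c16 : 16 ≤ Nat.card ↥(U₀ ⊔ zpowers s : Subgroup G) := by
        have := card_sup_zpowers hsU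
        omega
      have hf'U : f' ∈ U₀ := by
        rw [hU₀]
        exact mem_sup_right (mem_zpowers f')
      refine false_of_star T hG S hz₀ hzz₀ hz₁ hff lam hf'M hff' hl' (el_of_sq hU2) c16
        (mem_sup_left hf'U) (sup_le hU₀M (zpowers_le.mpr hsM)) pgl ?_
      rintro g hg - h hlg
      refine ⟨hg, mem_normalizer_iff_cj.mpr ?_⟩
      by_contra hne
      refine hno (cj (m * g) H) ⟨m * g, mul_mem hm hg, rfl⟩ (fun h2 => hne ?_) ⟨hf2, m * g,
        mul_mem hm hg, rfl, ?_, ?_⟩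
      · rw [cj_mul] at h2
        exact cj_injective m h2
      · have e : (m * g)⁻¹ * f * (m * g) = g⁻¹ * f' * g := by
          rw [hf']
          group
        rw [e]
        exact h
      · have e : g⁻¹ * f' * g = (m * g)⁻¹ * f * (m * g) := by
          rw [hf']
          group
        rw [← hlg]
        exact (hlc h e).symm
  have hPx : PP lam H x := by
    refine ⟨hxx, 1, one_mem _, (cj_one H).symm, ?_, ?_⟩
    · have e : (1 : G)⁻¹ * x * 1 = x := by group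
      rw [e]
      exact hx
    · have e : x = (1 : G)⁻¹ * x * 1 := by group
      rw [← hlx]
      exact (hlc hx e).symm
  obtain ⟨H', hH', hne, hP'⟩ := Q.other H mem_orb_self x hPx four
  have hxM' := Q.mem H' hH' x hP'
  obtain ⟨t, ht, htt, ht1, htx⟩ := F.exists_inv hH' hxM'.1 hxx hxM'.2
  refine F.false_of T hcrit hW ?_ Q mem_orb_self hPx four hH' ht htt ht1
    (fin t (F.le_K0 mem_orb_self hH' hne ht) htt ht1 htx)
  rintro _ ⟨m, hm, rfl⟩ s hs t ht hss htt hs1 ht1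
  rw [mem_cj] at hs ht
  have hne1 : ∀ u : G, u ≠ 1 → m⁻¹ * u * m ≠ 1 := by
    intro u hu h
    apply hu
    have : u = m * (m⁻¹ * u * m) * m⁻¹ := by group
    rw [this, h]
    group
  obtain ⟨h, hh, hht⟩ := one _ hs _ ht (hsqc m s hss) (hsqc m t htt) (hne1 s hs1) (hne1 t ht1)
  refine ⟨m * h * m⁻¹, conj_mem_cj hh, ?_⟩
  have e : m * h * m⁻¹ * s * (m * h * m⁻¹)⁻¹ = m * (h * (m⁻¹ * s * m) * h⁻¹) * m⁻¹ := by group
  rw [e, hht]
  group

/-- the same for `H / O(H) ≅ PSL(2,F)` -/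
theorem false_of_rep [IsSimpleGroup G] (T : TwoBal G) (hcrit : Crit G) (hG : ∀ f : G →* ℤˣ, f = 1)
    (S : Pt W H) (hW : W ≠ ⊥) {z₀ : G} (hz₀ : z₀ ∈ K0 W H) (hzz₀ : z₀ * z₀ = 1) (hz₁ : z₀ ≠ 1)
    (hff : FF W H z₀) {F : Type*} [Field F] [Finite F]
    (R : Cfsg.Agent.GH.L2Aut.Rep F (↥H ⧸ oddCore ↥H))
    (comm : ∀ m ∈ normalizer (W : Set G), cj m H = H ∨ ⁅H, cj m H⁆ ≤ W)
    {x : G} (hx : x ∈ M0 W H) (hxx : x * x = 1) (hlx : WSup.lam R W ⟨x, hx⟩ = -1)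
    (four : HasFour (K0 W H ⊓ centralizer ({x} : Set G)))
    (fin : ∀ u ∈ K0 W H, u * u = 1 → u ≠ 1 → u * x = x * u →
      centralizer ({u} : Set G) ≤ normalizer (W : Set G)) : False := by
  refine false_of T hcrit hG S hW hz₀ hzz₀ hz₁ hff (WSup.lam R W) ?_
    (fun U hU elU x hx hxU hl => WSup.pgl R U hU elU x hx hxU hl)
    (fun U hU hU2 h16 h4 => KA.ka R S.toSys.le_M0 hU hU2 h16 h4)
    (fun s hs t ht hss htt hs1 ht1 => KA.one R hs ht hss htt hs1 ht1) comm hx hxx hlx four fin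
  intro k hk hkK
  rw [WSup.lam_mk, (WSup.mem_K0_iff hk).mp hkK, map_one]

end Cfsg.Agent.UGT.Res.WMany
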