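import Cfsg.Agent.UGT.Res.WMany.Fam

/-!
# The 2-rank of `C_M(v)`

`Fam.exists_rank`: for every involution `v ∈ M = N(W)` the group `C_M(v)` contains an elementary abelian subgroup of
order 16, if `𝓗` has at least three members, or at least two and an involution acting trivially on all of them.
-/

set_option autoImplicit false
set_option linter.unusedSectionVars false

open Cfsg Subgroup
open Cfsg.Agent.SignalizersComponents Cfsg.Agent.Lib
open Cfsg.Agent.SignalizersComponents.IntrinsicBasic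
open Cfsg.Agent.Intrinsic.Basic Cfsg.Agent.Intrinsic.Cen Cfsg.Agent.Intrinsic.Diag
open Cfsg.Agent.McLLyComp.Act
open Cfsg.Agent.UGT.Triple Cfsg.Agent.UGT.PumpGen Cfsg.Agent.UGT.TriBase
open Cfsg.Agent.UGT.Res.Base Cfsg.Agent.UGT.Res.Abel Cfsg.Agent.UGT.Res.CoreFree
open Cfsg.Agent.UGT.Res.WFun Cfsg.Agent.UGT.Res.WPair
open scoped commutatorElement

namespace Cfsg.Agent.UGT.Res.WMany

variable {G : Type*} [Group G]

/-! ### commutators modulo `W` -/

/-- the elements of `N(W)` commuting with `B` modulo `W` -/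
def cenW (W B : Subgroup G) : Subgroup G where
  carrier := {g | g ∈ normalizer (W : Set G) ∧ ∀ b ∈ B, ⁅g, b⁆ ∈ W}
  mul_mem' := by
    rintro g g' ⟨h1, h2⟩ ⟨h3, h4⟩
    refine ⟨mul_mem h1 h3, fun b hb => ?_⟩
    have e : ⁅g * g', b⁆ = g * ⁅g', b⁆ * g⁻¹ * ⁅g, b⁆ := by
      simp only [commutatorElement_def]
      group
    rw [e]
    exact mul_mem (conj_mem h1 (h4 b hb)) (h2 b hb)
  one_mem' := ⟨one_mem _, fun b _ => by
    rw [commutatorElement_one_left]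
    exact one_mem _⟩
  inv_mem' := by
    rintro g ⟨h1, h2⟩
    refine ⟨inv_mem h1, fun b hb => ?_⟩
    have e : ⁅g⁻¹, b⁆ = g⁻¹ * ⁅g, b⁆⁻¹ * g⁻¹⁻¹ := by
      simp only [commutatorElement_def]
      group
    rw [e]
    exact conj_mem (inv_mem h1) (inv_mem (h2 b hb))

theorem mem_cenW {W B : Subgroup G} {g : G} :
    g ∈ cenW W B ↔ g ∈ normalizer (W : Set G) ∧ ∀ b ∈ B, ⁅g, b⁆ ∈ W := Iff.rfl

theorem le_cenW_symm {W A B : Subgroup G} (hB : B ≤ normalizer (W : Set G)) (h : A ≤ cenW W B) :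
    B ≤ cenW W A := by
  intro b hb
  refine ⟨hB hb, fun a ha => ?_⟩
  rw [← commutatorElement_inv]
  exact inv_mem ((h ha).2 b hb)

variable [Finite G] {W : Subgroup G} {𝓗 : Set (Subgroup G)}

theorem Fam.le_cenW (F : Fam W 𝓗) {X Y : Subgroup G} (hX : X ∈ 𝓗) (hY : Y ∈ 𝓗) (hne : X ≠ Y) :
    X ≤ cenW W Y := fun _ hx =>
  ⟨(F.sys X hX).nW hx, fun _ hy => F.comm X hX Y hY hne (commutator_mem_commutator hx hy)⟩

/-- `[X X', Y Y'] ≤ W` -/
theorem Fam.sup_le_cenW (F : Fam W 𝓗) {X X' Y Y' : Subgroup G} (hX : X ∈ 𝓗) (hX' : X' ∈ 𝓗)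
    (hY : Y ∈ 𝓗) (hY' : Y' ∈ 𝓗) (h1 : X ≠ Y) (h2 : X ≠ Y') (h3 : X' ≠ Y) (h4 : X' ≠ Y') :
    X ⊔ X' ≤ cenW W (Y ⊔ Y') := by
  have hN : X ⊔ X' ≤ normalizer (W : Set G) := sup_le (F.sys X hX).nW (F.sys X' hX').nW
  refine le_cenW_symm hN (sup_le ?_ ?_)
  · exact le_cenW_symm (F.sys Y hY).nW (sup_le (F.le_cenW hX hY h1) (F.le_cenW hX' hY h3))
  · exact le_cenW_symm (F.sys Y' hY').nW (sup_le (F.le_cenW hX hY' h2) (F.le_cenW hX' hY' h4))

/-- elements of a 2-group commuting modulo `W` commute -/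
theorem comm_of_cenW {T A B : Subgroup G} (hT : IsPGroup 2 ↥T) (hW : Odd (Nat.card ↥W))
    (h : A ≤ cenW W B) {a b : G} (ha : a ∈ A) (hb : b ∈ B) (haT : a ∈ T) (hbT : b ∈ T) :
    a * b = b * a := by
  refine commutatorElement_eq_one_iff_mul_comm.mp (eq_one_of_two_odd hT hW ?_ ((h ha).2 b hb))
  rw [commutatorElement_def]
  exact mul_mem (mul_mem (mul_mem haT hbT) (inv_mem haT)) (inv_mem hbT)

/-! ### `T₀ ∈ Syl₂(C_M(v))` -/

/-- the elements of `N(W)` acting trivially on all members -/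
def KK (W : Subgroup G) (𝓗 : Set (Subgroup G)) : Subgroup G :=
  normalizer (W : Set G) ⊓ sInf {K | ∃ X ∈ 𝓗, K = K0 W X}

omit [Finite G] in
theorem mem_KK {c : G} : c ∈ KK W 𝓗 ↔ c ∈ normalizer (W : Set G) ∧ ∀ X ∈ 𝓗, c ∈ K0 W X := by
  rw [KK, mem_inf, mem_sInf]
  refine and_congr_right fun _ => ⟨fun h X hX => h _ ⟨X, hX, rfl⟩, ?_⟩
  rintro h _ ⟨X, hX, rfl⟩
  exact h X hX

theorem Fam.normalizer_le_KK (F : Fam W 𝓗) :
    normalizer (W : Set G) ≤ normalizer ((KK W 𝓗 : Subgroup G) : Set G) := by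
  have key : ∀ m ∈ normalizer (W : Set G), ∀ c ∈ KK W 𝓗, m * c * m⁻¹ ∈ KK W 𝓗 := by
    intro m hm c hc
    rw [mem_KK] at hc ⊢
    refine ⟨mul_mem (mul_mem hm hc.1) (inv_mem hm), fun X hX => ?_⟩
    have h1 := hc.2 _ (F.conj m⁻¹ (inv_mem hm) X hX)
    have h2 : m * c * m⁻¹ ∈ cj m (K0 W (cj m⁻¹ X)) := conj_mem_cj h1
    rwa [cj_K0, ← cj_mul, mul_inv_cancel, cj_one, mem_normalizer_iff_cj.mp hm] at h2
  intro m hm
  rw [mem_normalizer_iff]
  refine fun c => ⟨key m hm c, fun h => ?_⟩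
  have h2 := key _ (inv_mem hm) _ h
  have h3 : m⁻¹ * (m * c * m⁻¹) * m⁻¹⁻¹ = c := by group
  rwa [h3] at h2

/-- a Sylow 2-subgroup of `C_M(v)` containing `v` -/
structure Syl0 (W : Subgroup G) (v : G) (T : Subgroup G) : Prop where
  syl : IsSyl (normalizer (W : Set G) ⊓ centralizer ({v} : Set G)) T
  mem : v ∈ T

theorem exists_syl0 {v : G} (hv : v ∈ normalizer (W : Set G)) (hvv : v * v = 1) :
    ∃ T, Syl0 W v T := by
  obtain ⟨T, h1, h2⟩ := exists_isSyl (E := normalizer (W : Set G) ⊓ centralizer ({v} : Set G))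
    (isPGroup_of_el (el_zpowers hvv))
    (zpowers_le.mpr (mem_inf.mpr ⟨hv, mem_centralizer_singleton_iff.mpr rfl⟩))
  exact ⟨T, h1, h2 (mem_zpowers v)⟩

theorem Syl0.comm {v : G} {T : Subgroup G} (S : Syl0 W v T) {t : G} (ht : t ∈ T) : t * v = v * t :=
  comm_c (S.syl.le ht).2

/-- `T₀ ∩ D ∈ Syl₂(C_D(v))` for `D` normal in a normal subgroup of `M` -/
theorem Syl0.inf {v : G} {T : Subgroup G} (S : Syl0 W v T) {N D : Subgroup G}
    (hN : N ≤ normalizer (W : Set G)) (hnN : normalizer (W : Set G) ≤ normalizer (N : Set G))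
    (hD : D ≤ N) (hnD : N ≤ normalizer (D : Set G)) :
    IsSyl (D ⊓ centralizer ({v} : Set G)) (T ⊓ D) := by
  have hC : ∀ K : Subgroup G, ∀ g ∈ normalizer (K : Set G), g ∈ centralizer ({v} : Set G) →
      g ∈ normalizer ((K ⊓ centralizer ({v} : Set G) : Subgroup G) : Set G) := by
    intro K g hg hgv
    rw [mem_normalizer_iff_cj, cj_inf, mem_normalizer_iff_cj.mp hg, cj_eq_self_of_mem hgv]
  have h1 := S.syl.inf (L := N ⊓ centralizer ({v} : Set G)) (inf_le_inf_right _ hN)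
    fun g hg => hC N g (hnN (mem_inf.mp hg).1) (mem_inf.mp hg).2
  have h2 := h1.inf (L := D ⊓ centralizer ({v} : Set G)) (inf_le_inf_right _ hD)
    fun g hg => hC D g (hnD (mem_inf.mp hg).1) (mem_inf.mp hg).2
  have h3 : T ⊓ (N ⊓ centralizer ({v} : Set G)) ⊓ (D ⊓ centralizer ({v} : Set G)) = T ⊓ D := by
    apply le_antisymm
    · exact le_inf (inf_le_left.trans inf_le_left) (inf_le_right.trans inf_le_left)
    · have h4 : T ≤ centralizer ({v} : Set G) := S.syl.le.trans inf_le_right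
      exact le_inf (le_inf inf_le_left (le_inf (inf_le_right.trans hD) (inf_le_left.trans h4)))
        (le_inf inf_le_right (inf_le_left.trans h4))
  rwa [h3] at h2

theorem exists_of_isSyl {X P : Subgroup G} (hP : IsSyl X P) {s : G} (hs : s ∈ X) (hss : s * s = 1)
    (h1 : s ≠ 1) : ∃ t ∈ P, t * t = 1 ∧ t ≠ 1 := by
  obtain ⟨g, hg, h2⟩ := hP.conj (isPGroup_of_el (el_zpowers hss)) (zpowers_le.mpr hs)
  have h3 : s ∈ cj g P := h2 (mem_zpowers s)
  rw [mem_cj] at h3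
  refine ⟨_, h3, ?_, ?_⟩
  · have : g⁻¹ * s * g * (g⁻¹ * s * g) = g⁻¹ * (s * s) * g := by group
    rw [this, hss]
    group
  · intro h4
    apply h1
    have : s = g * (g⁻¹ * s * g) * g⁻¹ := by group
    rw [this, h4]
    group

section one

variable {v : G}

/-- `v ∈ N(X)`: an involution of `C_X(v)` -/
theorem Fam.exists_inv (F : Fam W 𝓗) {X : Subgroup G} (hX : X ∈ 𝓗) (hv : v ∈ normalizer (W : Set G))
    (hvv : v * v = 1) (hvX : v ∈ normalizer (X : Set G)) :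
    ∃ s ∈ X, s * s = 1 ∧ s ≠ 1 ∧ s * v = v * s := by
  obtain ⟨R, hR, hUR, hRn, hP⟩ := exists_R (W := W) (X := X) (zpowers_le.mpr (⟨hv, hvX⟩ : v ∈ M0 W X))
    (isPGroup_of_el (el_zpowers hvv))
  obtain ⟨s, hs, hso, hsc⟩ := exists_central hR inf_le_left hRn
    (ne_bot_of_hasFour (hasFour_of_isSyl hP (F.four_K0 hX)))
  exact ⟨s, hs.2, sq_of_order hso, ne_one_of_order hso, (hsc v (hUR (mem_zpowers v))).symm⟩

/-- `v ∉ N(X)`: a four-group of `C_{X X ^ v}(v)` -/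
theorem Fam.four_moved (F : Fam W 𝓗) {X : Subgroup G} (hX : X ∈ 𝓗) (hv : v ∈ normalizer (W : Set G))
    (hvv : v * v = 1) (hvX : cj v X ≠ X) :
    HasFour ((X ⊔ cj v X) ⊓ centralizer ({v} : Set G)) := by
  obtain ⟨R, hR, hUR⟩ := exists_isSyl (E := normalizer (W : Set G))
    (isPGroup_of_el (el_zpowers hvv)) (zpowers_le.mpr hv)
  have hvR : v ∈ R := hUR (mem_zpowers v)
  have hX' := F.conj v hv X hX
  obtain ⟨V, hV, hV2, hV4⟩ := hasFour_of_isSyl (F.isSyl_inf hX hR) (F.four_K0 hX)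
  have hv' : v⁻¹ = v := inv_eq_of_mul_eq_one_left hvv
  have hmem : ∀ p ∈ V, v * p * v⁻¹ ∈ cj v X := fun p hp => conj_mem_cj (hV hp).2
  have hcomm : ∀ p ∈ V, ∀ q ∈ V, p * (v * q * v⁻¹) = (v * q * v⁻¹) * p := fun p hp q hq =>
    comm_of_cenW hR.two (F.odd_W hX) (F.le_cenW hX hX' (Ne.symm hvX)) (hV hp).2 (hmem q hq) (hV hp).1
      (mul_mem (mul_mem hvR (hV hq).1) (inv_mem hvR))
  obtain ⟨φ, hφ⟩ : ∃ φ : ↥V →* G, ∀ p : ↥V, φ p = p * (v * p * v⁻¹) :=
    ⟨{ toFun := fun p => p * (v * p * v⁻¹)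
       map_one' := by simp
       map_mul' := fun p q => by
        have h1 := hcomm q q.2 p p.2
        change (p : G) * q * (v * (p * q) * v⁻¹) = p * (v * p * v⁻¹) * (q * (v * q * v⁻¹))
        calc (p : G) * q * (v * (p * q) * v⁻¹)
            = p * (q * (v * p * v⁻¹)) * (v * q * v⁻¹) := by group
          _ = p * ((v * p * v⁻¹) * q) * (v * q * v⁻¹) := by rw [h1]
          _ = _ := by group }, fun _ => rfl⟩
  have hinj : Function.Injective φ := by
    rw [injective_iff_map_eq_one]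
    intro p hp
    rw [hφ] at hp
    have h1 : (p : G) = (v * p * v⁻¹)⁻¹ := eq_inv_of_mul_eq_one_left hp
    have h2 : (p : G) ∈ cj v X := by
      rw [h1]
      exact inv_mem (hmem p p.2)
    exact Subtype.ext (F.eq_one_of_mem hX (hV p.2).2 (hV2 p p.2) (F.le_K0 hX hX' hvX h2))
  refine ⟨φ.range, ?_, ?_, ?_⟩
  · rintro _ ⟨p, rfl⟩
    refine mem_inf.mpr ⟨?_, ?_⟩
    · rw [hφ]
      exact mul_mem (mem_sup_left (hV p.2).2) (mem_sup_right (hmem p p.2))
    · rw [mem_centralizer_singleton_iff, hφ]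
      have h1 := hcomm p p.2 p p.2
      calc (p : G) * (v * p * v⁻¹) * v = p * (v * p) := by group
        _ = (v * v) * p * (v * p) := by rw [hvv, one_mul]
        _ = v * ((v * p * v⁻¹) * (v * v) * p) := by group
        _ = v * ((v * p * v⁻¹) * p) := by rw [hvv, mul_one]
        _ = v * (p * (v * p * v⁻¹)) := by rw [h1]
  · rintro _ ⟨p, rfl⟩
    rw [← map_mul]
    have h1 : p * p = 1 := Subtype.ext (hV2 p p.2)
    rw [h1, map_one]
  · rw [← hV4, Nat.card_congr (Equiv.ofInjective φ hinj)]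
    rfl

/-- the involution `f` -/
theorem Fam.exists_f (F : Fam W 𝓗) {T : Subgroup G} (S : Syl0 W v T)
    (hv : v ∈ normalizer (W : Set G)) (hvv : v * v = 1) {f : G} (hf : f ∈ KK W 𝓗) (hff : f * f = 1)
    (hf1 : f ≠ 1) : ∃ e ∈ KK W 𝓗, e ∈ T ∧ e * e = 1 ∧ e ≠ 1 ∧ ∀ t ∈ T, t * e = e * t := by
  have hKN : KK W 𝓗 ≤ normalizer (W : Set G) := inf_le_left
  -- `C_K(v)` has even order
  obtain ⟨R, hR, hUR⟩ := exists_isSyl (E := normalizer (W : Set G))
    (isPGroup_of_el (el_zpowers hvv)) (zpowers_le.mpr hv)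
  have h1 := hR.inf hKN F.normalizer_le_KK
  obtain ⟨f', hf', hff', hf1'⟩ := exists_of_isSyl h1 hf hff hf1
  have h2 : R ≤ normalizer ((R ⊓ KK W 𝓗 : Subgroup G) : Set G) := by
    intro r hr
    rw [mem_normalizer_iff_cj, cj_inf, cj_eq_self_of_mem hr,
      mem_normalizer_iff_cj.mp (F.normalizer_le_KK (hR.le hr))]
  obtain ⟨s, hs, hso, hsc⟩ := exists_central hR.two inf_le_left h2 (fun h => hf1' (by
    rw [h] at hf'
    exact hf'))
  have h3 := S.inf hKN F.normalizer_le_KK le_rfl Subgroup.le_normalizer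
  obtain ⟨t, ht, htt, ht1⟩ := exists_of_isSyl h3 (s := s)
    (mem_inf.mpr ⟨hs.2, mem_centralizer_singleton_iff.mpr (hsc v (hUR (mem_zpowers v))).symm⟩)
    (sq_of_order hso) (ne_one_of_order hso)
  have h4 : T ≤ normalizer ((T ⊓ KK W 𝓗 : Subgroup G) : Set G) := by
    intro r hr
    rw [mem_normalizer_iff_cj, cj_inf, cj_eq_self_of_mem hr,
      mem_normalizer_iff_cj.mp (F.normalizer_le_KK (S.syl.le hr).1)]
  obtain ⟨e, he, heo, hec⟩ := exists_central S.syl.two inf_le_left h4 (fun h => ht1 (by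
    rw [h] at ht
    exact ht))
  exact ⟨e, he.2, he.1, sq_of_order heo, ne_one_of_order heo, hec⟩

/-- `v` acts on `Y` as the element `s` of `Y` -/
theorem Fam.four_inner (F : Fam W 𝓗) {T Y : Subgroup G} (S : Syl0 W v T) (hY : Y ∈ 𝓗) {a s w : G}
    (ha : a ∈ T) (haK : a ∈ K0 W Y) (hs : s ∈ T) (hsY : s ∈ Y) (hss : s * s = 1) (hs1 : s ≠ 1)
    (hw : w = 1 ∨ w = s) (hv : v = a * w) : HasFour (Y ⊓ centralizer ({v} : Set G)) := by
  obtain ⟨R, hR, hTR⟩ := exists_isSyl (E := normalizer (W : Set G)) S.syl.two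
    (S.syl.le.trans inf_le_left)
  have hP := F.isSyl_inf hY hR
  obtain ⟨A, hAP, hA2, hA4, hsA⟩ := exists_four hP.two (hasFour_of_isSyl hP (F.four_K0 hY))
    (mem_inf.mpr ⟨hTR hs, hsY⟩) hss hs1
  refine ⟨A, ?_, hA2, hA4⟩
  intro b hb
  refine mem_inf.mpr ⟨(hAP hb).2, ?_⟩
  rw [mem_centralizer_singleton_iff, hv]
  have h1 : Commute b a := (comm_of_K0 hR.two (hTR ha) haK (hAP hb).1 (hAP hb).2).symm
  have h2 : Commute b s := comm_of_el (el_of_sq hA2) hb hsA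
  rcases hw with rfl | rfl
  · exact (h1.mul_right (Commute.one_right b)).eq
  · exact (h1.mul_right h2).eq

theorem Fam.exists_mk {T : Subgroup G} (S : Syl0 W v T) {V : Subgroup G} (hV : V ≤ T)
    (hV2 : ∀ u ∈ V, u * u = 1) (h8 : 8 ≤ Nat.card ↥V) {w : G} (hw : w ∈ T) (hww : w * w = 1)
    (hc : ∀ u ∈ V, u * w = w * u) (hwV : w ∉ V) :
    ∃ U : Subgroup G, U ≤ normalizer (W : Set G) ∧ (∀ u ∈ U, u * u = 1) ∧ 16 ≤ Nat.card ↥U ∧
      ∀ u ∈ U, u * v = v * u := by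
  have h1 : V ⊔ zpowers w ≤ T := sup_le hV (zpowers_le.mpr hw)
  refine ⟨V ⊔ zpowers w, (h1.trans S.syl.le).trans inf_le_left, sq_sup_zpowers hV2 hww hc, ?_,
    fun u hu => S.comm (h1 hu)⟩
  have := card_sup_zpowers hwV
  omega

/-- **`C_M(v)` has 2-rank at least 4.** -/
theorem Fam.exists_rank (F : Fam W 𝓗) (hv : v ∈ normalizer (W : Set G)) (hvv : v * v = 1)
    (hn : (∃ X ∈ 𝓗, ∃ Y ∈ 𝓗, ∃ Z ∈ 𝓗, X ≠ Y ∧ X ≠ Z ∧ Y ≠ Z) ∨
      ((∃ X ∈ 𝓗, ∃ Y ∈ 𝓗, X ≠ Y) ∧ ∃ f ∈ KK W 𝓗, f * f = 1 ∧ f ≠ 1)) :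
    ∃ U : Subgroup G, U ≤ normalizer (W : Set G) ∧ (∀ u ∈ U, u * u = 1) ∧ 16 ≤ Nat.card ↥U ∧
      ∀ u ∈ U, u * v = v * u := by
  obtain ⟨T, S⟩ := exists_syl0 hv hvv
  have hTN : T ≤ normalizer (W : Set G) := S.syl.le.trans inf_le_left
  have hSS : sSup 𝓗 ≤ normalizer (W : Set G) := sSup_le fun Y hY => (F.sys Y hY).nW
  have hcj : ∀ X ∈ 𝓗, cj v X ∈ 𝓗 := fun X hX => F.conj v hv X hX
  have hcc : ∀ X : Subgroup G, cj v (cj v X) = X := by
    intro X
    rw [← cj_mul, hvv, cj_one]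
  have hDS : ∀ X ∈ 𝓗, X ⊔ cj v X ≤ sSup 𝓗 := fun X hX => sup_le (le_sSup hX) (le_sSup (hcj X hX))
  have hD : ∀ X ∈ 𝓗, IsSyl ((X ⊔ cj v X) ⊓ centralizer ({v} : Set G)) (T ⊓ (X ⊔ cj v X)) := by
    intro X hX
    refine S.inf hSS F.normalizer_le_sSup (hDS X hX) (sSup_le fun Y hY y hy => ?_)
    rw [mem_normalizer_iff_cj, cj_sup, mem_normalizer_iff_cj.mp (F.le_normalizer hX hY hy),
      mem_normalizer_iff_cj.mp (F.le_normalizer (hcj X hX) hY hy)]
  have hinv : ∀ X ∈ 𝓗, ∃ s ∈ T, s ∈ X ⊔ cj v X ∧ s * s = 1 ∧ s ≠ 1 := by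
    intro X hX
    have h1 : ∃ s ∈ (X ⊔ cj v X) ⊓ centralizer ({v} : Set G), s * s = 1 ∧ s ≠ 1 := by
      by_cases hvX : cj v X = X
      · obtain ⟨s, h1, h2, h3, h4⟩ := F.exists_inv hX hv hvv (mem_normalizer_iff_cj.mpr hvX)
        exact ⟨s, mem_inf.mpr ⟨mem_sup_left h1, mem_centralizer_singleton_iff.mpr h4⟩, h2, h3⟩
      · obtain ⟨V, hV, hV2, hV4⟩ := F.four_moved hX hv hvv hvX
        obtain ⟨s, hs, hs1, -⟩ := exists_ne (B := V) (by omega) 1
        exact ⟨s, hV hs, hV2 s hs, hs1⟩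
    obtain ⟨s, h1, h2, h3⟩ := h1
    obtain ⟨t, ht, h4, h5⟩ := exists_of_isSyl (hD X hX) h1 h2 h3
    exact ⟨t, ht.1, ht.2, h4, h5⟩
  have hW := fun X (hX : X ∈ 𝓗) => F.odd_W hX
  by_cases hI : ∃ X ∈ 𝓗, HasFour ((X ⊔ cj v X) ⊓ centralizer ({v} : Set G))
  · obtain ⟨X, hX, h4⟩ := hI
    obtain ⟨V, hV, hV2, hV4⟩ := hasFour_of_isSyl (hD X hX) h4
    have hX' := hcj X hX
    by_cases hIa : ∃ Y ∈ 𝓗, Y ≠ X ∧ Y ≠ cj v X
    · obtain ⟨Y, hY, hYX, hYX'⟩ := hIa
      have hY' := hcj Y hY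
      obtain ⟨s, hsT, hsD, hss, hs1⟩ := hinv Y hY
      have h3 : X ≠ cj v Y := fun h => hYX' (by rw [h, hcc])
      have h5 : cj v X ≠ cj v Y := fun h => hYX (cj_injective v h).symm
      have hcw : X ⊔ cj v X ≤ cenW W (Y ⊔ cj v Y) :=
        F.sup_le_cenW hX hX' hY hY' hYX.symm h3 hYX'.symm h5
      have hcomm : ∀ {a b : G}, a ∈ T → a ∈ X ⊔ cj v X → b ∈ T → b ∈ Y ⊔ cj v Y → a * b = b * a :=
        fun ha ha' hb hb' => comm_of_cenW S.syl.two (hW X hX) hcw ha' hb' ha hb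
      have hXK : ∀ Z ∈ 𝓗, Z ≠ X → Z ≠ cj v X → X ⊔ cj v X ≤ K0 W Z := fun Z hZ h1 h2 =>
        sup_le (F.le_K0 hZ hX h1.symm) (F.le_K0 hZ hX' h2.symm)
      have hYK : ∀ Z ∈ 𝓗, Z ≠ Y → Z ≠ cj v Y → Y ⊔ cj v Y ≤ K0 W Z := fun Z hZ h1 h2 =>
        sup_le (F.le_K0 hZ hY h1.symm) (F.le_K0 hZ hY' h2.symm)
      have hdisj : ∀ c : G, c ∈ X ⊔ cj v X → c ∈ Y ⊔ cj v Y → c * c = 1 → c = 1 := by
        intro c h6 h7 h8
        refine F.eq_one_of (hDS X hX h6) h8 fun Z hZ => ?_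
        by_cases h9 : Z = X ∨ Z = cj v X
        · rcases h9 with rfl | rfl
          · exact hYK _ hZ hYX.symm h3 h7
          · exact hYK _ hZ hYX'.symm h5 h7
        · push Not at h9
          exact hXK Z hZ h9.1 h9.2 h6
      have hVs : ∀ a ∈ V, a * s = s * a := fun a ha => hcomm (hV ha).1 (hV ha).2 hsT hsD
      have hsV : s ∉ V := fun h => hs1 (hdisj s (hV h).2 hsD hss)
      have h8 : 8 ≤ Nat.card ↥(V ⊔ zpowers s : Subgroup G) := by
        have := card_sup_zpowers hsV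
        omega
      have hE2 := sq_sup_zpowers hV2 hss hVs
      have hET : V ⊔ zpowers s ≤ T := sup_le (hV.trans inf_le_left) (zpowers_le.mpr hsT)
      by_cases hvE : v ∈ V ⊔ zpowers s
      · have hcz : ∀ e ∈ V, ∀ f ∈ zpowers s, e * f = f * e := by
          intro e he f hf
          rcases (mem_zpowers_of_sq hss).mp hf with rfl | rfl
          · rw [mul_one, one_mul]
          · exact hVs e he
        obtain ⟨a, ha, w, hw, hav⟩ := (mem_sup_of_comm hcz).mp hvE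
        have hvY : cj v Y = Y := by
          have h6 : v ∈ sSup 𝓗 := by
            have h7 : V ⊔ zpowers s ≤ sSup 𝓗 :=
              sup_le ((hV.trans inf_le_right).trans (hDS X hX)) (zpowers_le.mpr (hDS Y hY hsD))
            exact h7 hvE
          have h7 : sSup 𝓗 ≤ normalizer (Y : Set G) := sSup_le fun Z hZ => F.le_normalizer hY hZ
          exact mem_normalizer_iff_cj.mp (h7 h6)
        have hsY : s ∈ Y := by
          have h6 := hsD
          rwa [hvY, sup_idem] at h6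
        have h6 := F.four_inner S hY (hV ha).1 (hXK Y hY hYX hYX' (hV ha).2) hsT hsY hss hs1
          ((mem_zpowers_of_sq hss).mp hw) hav.symm
        obtain ⟨V₂, hV₂, hV₂2, hV₂4⟩ := hasFour_of_isSyl (hD Y hY)
          (h6.mono (inf_le_inf_right _ le_sup_left))
        have h7 : ∀ a ∈ V, ∀ b ∈ V₂, a * b = b * a := fun a ha b hb =>
          hcomm (hV ha).1 (hV ha).2 (hV₂ hb).1 (hV₂ hb).2
        have h9 : V ⊓ V₂ = ⊥ := by
          rw [eq_bot_iff]
          intro c hc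
          exact hdisj c (hV hc.1).2 (hV₂ hc.2).2 (hV2 c hc.1)
        have h10 := card_mul_le_sup h9
        rw [hV4, hV₂4] at h10
        have h11 : V ⊔ V₂ ≤ T := sup_le (hV.trans inf_le_left) (hV₂.trans inf_le_left)
        refine ⟨V ⊔ V₂, h11.trans hTN, fun u hu =>
          sq_of_el (el_sup (el_of_sq hV2) (el_of_sq hV₂2) h7) hu, h10, fun u hu => S.comm (h11 hu)⟩
      · exact Fam.exists_mk S hET hE2 h8 S.mem hvv (fun u hu => S.comm (hET hu)) hvE
    · push Not at hIa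
      have hne2 : ∃ X ∈ 𝓗, ∃ Y ∈ 𝓗, X ≠ Y := by
        rcases hn with ⟨X₁, h1, X₂, h2, -, -, h3, -⟩ | ⟨h, -⟩
        · exact ⟨X₁, h1, X₂, h2, h3⟩
        · exact h
      have hall : ∀ Y ∈ 𝓗, Y = X ∨ Y = cj v X := by
        intro Y hY
        by_cases h : Y = X
        · exact Or.inl h
        · exact Or.inr (hIa Y hY h)
      have hvX : cj v X ≠ X := by
        intro h
        obtain ⟨Y, hY, Z, hZ, hYZ⟩ := hne2
        apply hYZ
        rcases hall Y hY with h1 | h1 <;> rcases hall Z hZ with h2 | h2 <;> rw [h1, h2] <;>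
          first | rfl | exact h | exact h.symm
      obtain ⟨f, hf, hff, hf1⟩ : ∃ f ∈ KK W 𝓗, f * f = 1 ∧ f ≠ 1 := by
        rcases hn with ⟨Y, h1, Z, h2, Z', h3, h4, h5, h6⟩ | ⟨-, h⟩
        · exfalso
          rcases hall Y h1 with rfl | rfl <;> rcases hall Z h2 with rfl | rfl <;>
            rcases hall Z' h3 with rfl | rfl <;> contradiction
        · exact h
      obtain ⟨e, heK, heT, hee, he1, hec⟩ := F.exists_f S hv hvv hf hff hf1
      have heV : e ∉ V := fun h => he1 (F.eq_one_of (hDS X hX (hV h).2) hee (mem_KK.mp heK).2)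
      have hVe : ∀ a ∈ V, a * e = e * a := fun a ha => hec a (hV ha).1
      have hE2 := sq_sup_zpowers hV2 hee hVe
      have h8 : 8 ≤ Nat.card ↥(V ⊔ zpowers e : Subgroup G) := by
        have := card_sup_zpowers heV
        omega
      have hET : V ⊔ zpowers e ≤ T := sup_le (hV.trans inf_le_left) (zpowers_le.mpr heT)
      refine Fam.exists_mk S hET hE2 h8 S.mem hvv (fun u hu => S.comm (hET hu)) fun h => hvX ?_
      have h9 : V ⊔ zpowers e ≤ normalizer (X : Set G) := by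
        refine sup_le (hV.trans (inf_le_right.trans ?_)) (zpowers_le.mpr ((mem_KK.mp heK).2 X hX).1.2)
        exact sup_le Subgroup.le_normalizer (F.le_normalizer hX hX')
      exact mem_normalizer_iff_cj.mp (h9 h)
  · push Not at hI
    have hvX : ∀ X ∈ 𝓗, cj v X = X := by
      intro X hX
      by_contra h
      exact hI X hX (F.four_moved hX hv hvv h)
    have hno : ∀ X ∈ 𝓗, ¬ HasFour (X ⊓ centralizer ({v} : Set G)) := fun X hX h =>
      hI X hX (h.mono (inf_le_inf_right _ le_sup_left))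
    have hinv' : ∀ X ∈ 𝓗, ∃ s ∈ T, s ∈ X ∧ s * s = 1 ∧ s ≠ 1 := by
      intro X hX
      obtain ⟨s, h1, h2, h3⟩ := hinv X hX
      rw [hvX X hX, sup_idem] at h2
      exact ⟨s, h1, h2, h3⟩
    obtain ⟨X, hX, Y, hY, hXY, w, hwT, hww, hw1, hwX, hwY⟩ : ∃ X ∈ 𝓗, ∃ Y ∈ 𝓗, X ≠ Y ∧
        ∃ w ∈ T, w * w = 1 ∧ w ≠ 1 ∧ w ∈ K0 W X ∧ w ∈ K0 W Y := by
      rcases hn with ⟨X, h1, Y, h2, Z, h3, h4, h5, h6⟩ | ⟨⟨X, h1, Y, h2, h3⟩, f, hf, hff, hf1⟩
      · obtain ⟨s, hsT, hsZ, hss, hs1⟩ := hinv' Z h3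
        exact ⟨X, h1, Y, h2, h4, s, hsT, hss, hs1, F.le_K0 h1 h3 h5.symm hsZ,
          F.le_K0 h2 h3 h6.symm hsZ⟩
      · obtain ⟨e, heK, heT, hee, he1, -⟩ := F.exists_f S hv hvv hf hff hf1
        exact ⟨X, h1, Y, h2, h3, e, heT, hee, he1, (mem_KK.mp heK).2 X h1, (mem_KK.mp heK).2 Y h2⟩
    obtain ⟨s, hsT, hsX, hss, hs1⟩ := hinv' X hX
    obtain ⟨t, htT, htY, htt, ht1⟩ := hinv' Y hY
    have htK := F.le_K0 hX hY hXY.symm htY
    have hts : ∀ a ∈ zpowers s, a * t = t * a := by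
      intro a ha
      rcases (mem_zpowers_of_sq hss).mp ha with rfl | rfl
      · rw [one_mul, mul_one]
      · exact (comm_of_K0 S.syl.two htT htK hsT hsX).symm
    have htn : t ∉ zpowers s := fun h => ht1 (F.eq_one_of_mem hX (zpowers_le.mpr hsX h) htt htK)
    have hE1 := sq_sup_zpowers (fun e he => sq_of_el (el_zpowers hss) he) htt hts
    have c1 : 4 ≤ Nat.card ↥(zpowers s ⊔ zpowers t : Subgroup G) := by
      have h1 := card_sup_zpowers htn
      have h2 : Nat.card ↥(zpowers s) = 2 := by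
        rw [Nat.card_zpowers]
        exact orderOf_eq_prime (by rw [pow_two, hss]) hs1
      omega
    have hwn : w ∉ zpowers s ⊔ zpowers t := by
      intro h
      have h1 : zpowers s ⊔ zpowers t ≤ X ⊔ Y := sup_le_sup (zpowers_le.mpr hsX) (zpowers_le.mpr htY)
      refine hw1 (F.eq_one_of (sup_le (le_sSup hX) (le_sSup hY) (h1 h)) hww fun Z hZ => ?_)
      by_cases h2 : Z = X
      · rw [h2]
        exact hwX
      · by_cases h3 : Z = Y
        · rw [h3]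
          exact hwY
        · exact sup_le (F.le_K0 hZ hX (Ne.symm h2)) (F.le_K0 hZ hY (Ne.symm h3)) (h1 h)
    have hstw : ∀ a ∈ zpowers s ⊔ zpowers t, a * w = w * a := by
      have h1 : zpowers s ⊔ zpowers t ≤ centralizer ({w} : Set G) := by
        refine sup_le (zpowers_le.mpr ?_) (zpowers_le.mpr ?_)
        · exact mem_centralizer_singleton_iff.mpr (comm_of_K0 S.syl.two hwT hwX hsT hsX).symm
        · exact mem_centralizer_singleton_iff.mpr (comm_of_K0 S.syl.two hwT hwY htT htY).symm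
      exact fun a ha => comm_c (h1 ha)
    have hE2 := sq_sup_zpowers hE1 hww hstw
    have c2 : 8 ≤ Nat.card ↥(zpowers s ⊔ zpowers t ⊔ zpowers w : Subgroup G) := by
      have := card_sup_zpowers hwn
      omega
    have hET : zpowers s ⊔ zpowers t ⊔ zpowers w ≤ T :=
      sup_le (sup_le (zpowers_le.mpr hsT) (zpowers_le.mpr htT)) (zpowers_le.mpr hwT)
    refine Fam.exists_mk S hET hE2 c2 S.mem hvv (fun u hu => S.comm (hET hu)) fun h => hno X hX ?_
    have hcz : ∀ e ∈ zpowers s ⊔ zpowers t, ∀ f ∈ zpowers w, e * f = f * e := by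
      intro e he f hf
      rcases (mem_zpowers_of_sq hww).mp hf with rfl | rfl
      · rw [mul_one, one_mul]
      · exact hstw e he
    have hcz' : ∀ e ∈ zpowers s, ∀ f ∈ zpowers t, e * f = f * e := by
      intro e he f hf
      rcases (mem_zpowers_of_sq htt).mp hf with rfl | rfl
      · rw [mul_one, one_mul]
      · exact hts e he
    obtain ⟨g, hg, w', hw', rfl⟩ := (mem_sup_of_comm hcz).mp h
    obtain ⟨x, hx, y, hy, rfl⟩ := (mem_sup_of_comm hcz').mp hg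
    refine F.four_inner S hX (a := y * w') (s := s) (w := x) ?_ ?_ hsT hsX hss hs1
      ((mem_zpowers_of_sq hss).mp hx) ?_
    · exact mul_mem (zpowers_le.mpr htT hy) (zpowers_le.mpr hwT hw')
    · exact mul_mem (zpowers_le.mpr htK hy) (zpowers_le.mpr hwX hw')
    · have h1 := hcz' x hx y hy
      have h2 : x * w' = w' * x := hcz x (mem_sup_left hx) w' hw'
      calc x * y * w' = y * x * w' := by rw [h1]
        _ = y * (x * w') := mul_assoc _ _ _
        _ = y * (w' * x) := by rw [h2]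
        _ = y * w' * x := (mul_assoc _ _ _).symm

end one

end Cfsg.Agent.UGT.Res.WMany
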